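import Cfsg.Agent.H78.Fi22Rep.Packed

/-!
A 52 x 52 matrix over the field with 13 elements as one natural number, 32 bits per entry, and
multiplication as 52 products of a packed column with a packed row.
-/

set_option autoImplicit false

namespace Cfsg.Agent.H78.F4Mult

open Cfsg.Agent.H78.Fi22Rep (pk pk_congr maskN red red_pk and_split)
open Cfsg.Agent.H45 (force force_eq)
open Finset (range)

/-- entry `t` of a packed number -/
def slot (X t : ℕ) : ℕ := X / 2 ^ (32 * t) % 2 ^ 32

theorem pk_eq_sum : ∀ (n : ℕ) (f : ℕ → ℕ), pk n f = ∑ t ∈ range n, f t * 2 ^ (32 * t) := by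
  intro n
  induction n with
  | zero => intro f; rfl
  | succ n ih =>
    intro f
    rw [Finset.sum_range_succ' (fun t => f t * 2 ^ (32 * t)) n]
    show f 0 + 2 ^ 32 * pk n (fun j => f (j + 1)) = _
    rw [ih, Finset.mul_sum, Nat.add_comm]
    refine congrArg₂ (· + ·) (Finset.sum_congr rfl fun t _ => ?_) ?_
    · rw [Nat.mul_add 32 t 1, pow_add, Nat.mul_one, ← Nat.mul_assoc (f (t + 1)), Nat.mul_comm]
    · rw [Nat.mul_zero, pow_zero, Nat.mul_one]

theorem and_pk : ∀ (n X : ℕ) (c : ℕ → ℕ), (∀ t, c t < 2 ^ 32) →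
    X &&& pk n c = pk n (fun t => slot X t &&& c t) := by
  intro n
  induction n with
  | zero => intros; simp [pk]
  | succ n ih =>
    intro X c hc
    have h0 := hc 0
    have e1 : (c 0 + 2 ^ 32 * pk n fun j => c (j + 1)) % 2 ^ 32 = c 0 := by omega
    have e2 : (c 0 + 2 ^ 32 * pk n fun j => c (j + 1)) / 2 ^ 32 = pk n fun j => c (j + 1) := by omega
    rw [pk, and_split 32, e1, e2, ih _ _ (fun t => hc (t + 1)), pk]
    congr 1
    · simp [slot]
    · congr 1
      refine pk_congr fun t _ => ?_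
      rw [slot, slot, Nat.div_div_eq_div_mul, ← pow_add, show 32 + 32 * t = 32 * (t + 1) by ring]

theorem slot_pk : ∀ (n t : ℕ) (f : ℕ → ℕ), (∀ j, f j < 2 ^ 32) → t < n → slot (pk n f) t = f t := by
  intro n
  induction n with
  | zero => intros; omega
  | succ n ih =>
    intro t f hf ht
    have h0 := hf 0
    cases t with
    | zero =>
      simp only [slot, pk, mul_zero, pow_zero, Nat.div_one]
      omega
    | succ t =>
      have e2 : (pk (n + 1) f) / 2 ^ 32 = pk n fun j => f (j + 1) := by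
        simp only [pk]; omega
      rw [slot, show 32 * (t + 1) = 32 + 32 * t by ring, pow_add, ← Nat.div_div_eq_div_mul, e2]
      exact ih t _ (fun j => hf (j + 1)) (by omega)

theorem sum_range_block {M : Type*} [AddCommMonoid M] (m n : ℕ) (g : ℕ → M) :
    ∑ t ∈ range (m * n), g t = ∑ i ∈ range m, ∑ j ∈ range n, g (n * i + j) := by
  induction m with
  | zero => simp
  | succ m ih =>
    rw [Nat.succ_mul, Finset.sum_range_add, ih, Finset.sum_range_succ, Nat.mul_comm m n]

theorem sum_single (n : ℕ) (hn : 0 < n) (v : ℕ) (i : ℕ) (B : ℕ) :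
    ∑ j ∈ range n, (if (n * i + j) % n = 0 then v else 0) * B ^ (n * i + j) = v * B ^ (n * i) := by
  rw [Finset.sum_eq_single_of_mem 0 (Finset.mem_range.2 hn)]
  · simp
  · intro j hj hne
    rw [Finset.mem_range] at hj
    simp [Nat.mul_add_mod, Nat.mod_eq_of_lt hj, hne]

theorem geom_div (a n : ℕ) (ha : 1 ≤ a) :
    ∑ i ∈ range n, 2 ^ (a * i) = (2 ^ (a * n) - 1) / (2 ^ a - 1) := by
  simp only [pow_mul]
  exact Nat.geomSum_eq (by calc 2 = 2 ^ 1 := rfl
    _ ≤ 2 ^ a := Nat.pow_le_pow_right (by norm_num) ha) n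

/-- the mask for reduction -/
def redMask : ℕ := (2 ^ 14 - 1) * ((2 ^ (32 * 2704) - 1) / (2 ^ 32 - 1))

theorem maskN_eq_pk : ∀ n, maskN n = pk n fun _ => 2 ^ 14 - 1 := by
  intro n
  induction n with
  | zero => rfl
  | succ n ih => simp [maskN, pk, ih]

theorem redMask_eq : redMask = maskN 2704 := by
  rw [redMask, ← geom_div 32 2704 (by norm_num), maskN_eq_pk, pk_eq_sum, Finset.mul_sum]

/-- the mask for entries below sixteen -/
def lowMask : ℕ := 15 * ((2 ^ (32 * 2704) - 1) / (2 ^ 32 - 1))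

theorem lowMask_eq : lowMask = pk 2704 fun _ => 15 := by
  rw [lowMask, ← geom_div 32 2704 (by norm_num), pk_eq_sum, Finset.mul_sum]

/-- the mask for a column -/
def colMask : ℕ := (2 ^ 32 - 1) * ((2 ^ (1664 * 52) - 1) / (2 ^ 1664 - 1))

theorem colMask_eq : colMask = pk 2704 fun t => if t % 52 = 0 then 2 ^ 32 - 1 else 0 := by
  rw [colMask, ← geom_div 1664 52 (by norm_num), pk_eq_sum, show (2704 : ℕ) = 52 * 52 from rfl,
    sum_range_block, Finset.mul_sum]
  refine Finset.sum_congr rfl fun i _ => ?_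
  simp only [pow_mul (2 : ℕ) 32]
  rw [sum_single 52 (by norm_num), ← pow_mul, show 32 * (52 * i) = 1664 * i by ring]

/-- the mask for a row -/
def rowMask : ℕ := 2 ^ 1664 - 1

theorem ones_eq (a n : ℕ) : (2 ^ a - 1) * ((2 ^ (a * n) - 1) / (2 ^ a - 1)) = 2 ^ (a * n) - 1 := by
  refine Nat.mul_div_cancel' ?_
  simpa [pow_mul] using Nat.sub_dvd_pow_sub_pow (2 ^ a) 1 n

theorem pk_ones (n : ℕ) : pk n (fun _ => 2 ^ 32 - 1) = 2 ^ (32 * n) - 1 := by
  rw [pk_eq_sum, ← Finset.mul_sum, geom_div 32 n (by norm_num), ones_eq]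

theorem rowMask_eq : rowMask = pk 52 fun _ => 2 ^ 32 - 1 := by
  rw [pk_ones]
  unfold rowMask
  congr 2

/-- packed numbers with all entries below sixteen -/
def Small (X : ℕ) : Prop := ∃ f : ℕ → ℕ, (∀ t, f t < 16) ∧ X = pk 2704 f

theorem small_of_and {X : ℕ} (h : X &&& lowMask = X) : Small X := by
  refine ⟨fun t => slot X t &&& 15, fun t => Nat.lt_succ_of_le Nat.and_le_right, ?_⟩
  conv_lhs => rw [← h, lowMask_eq]
  exact and_pk _ _ _ (fun _ => by norm_num)

/-- the matrix of a packed number -/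
def bmat (X : ℕ) : Matrix (Fin 52) (Fin 52) (ZMod 13) :=
  Matrix.of fun i j => (slot X (52 * (i : ℕ) + (j : ℕ)) : ZMod 13)

/-- one term of a product -/
def mulTerm (C R A B k : ℕ) : ℕ := ((A >>> (32 * k)) &&& C) * ((B >>> (1664 * k)) &&& R)

/-- product of packed matrices -/
def bmul (M C R A B : ℕ) : ℕ := red M (((List.range 52).map (mulTerm C R A B)).sum)

theorem slot_lt {f : ℕ → ℕ} (hf : ∀ t, f t < 16) {t : ℕ} (ht : t < 2704) :
    slot (pk 2704 f) t = f t :=
  slot_pk _ _ _ (fun j => (hf j).trans (by norm_num)) ht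

theorem slot_shift (X k t : ℕ) : slot (X >>> (32 * k)) t = slot X (k + t) := by
  rw [slot, slot, Nat.shiftRight_eq_div_pow, Nat.div_div_eq_div_mul, ← pow_add, Nat.mul_add]

theorem and_ones (x : ℕ) (hx : x < 2 ^ 32) : x &&& (2 ^ 32 - 1) = x := by
  rw [Nat.and_two_pow_sub_one_eq_mod, Nat.mod_eq_of_lt hx]

theorem slot_bound (X t : ℕ) : slot X t < 2 ^ 32 := Nat.mod_lt _ (Nat.two_pow_pos 32)

theorem mulTerm_eq {f g : ℕ → ℕ} (hf : ∀ t, f t < 16) (hg : ∀ t, g t < 16) {k : ℕ} (hk : k < 52) :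
    mulTerm colMask rowMask (pk 2704 f) (pk 2704 g) k =
      ∑ i ∈ range 52, ∑ j ∈ range 52, f (52 * i + k) * g (52 * k + j) * 2 ^ (32 * (52 * i + j)) := by
  have hC : (pk 2704 f >>> (32 * k)) &&& colMask =
      ∑ i ∈ range 52, f (52 * i + k) * 2 ^ (32 * (52 * i)) := by
    rw [colMask_eq, and_pk _ _ _ (fun t => by split <;> norm_num), pk_eq_sum,
      show (2704 : ℕ) = 52 * 52 from rfl, sum_range_block]
    refine Finset.sum_congr rfl fun i hi => ?_
    rw [Finset.mem_range] at hi
    rw [Finset.sum_eq_single_of_mem 0 (Finset.mem_range.2 (by norm_num))]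
    · rw [add_zero, if_pos (Nat.mul_mod_right 52 i), and_ones _ (slot_bound _ _), slot_shift,
        show 52 * 52 = 2704 from rfl, slot_lt hf (by omega), Nat.add_comm k]
    · intro j hj hne
      rw [Finset.mem_range] at hj
      rw [if_neg (by omega), Nat.and_zero, Nat.zero_mul]
  have hR : (pk 2704 g >>> (1664 * k)) &&& rowMask =
      ∑ j ∈ range 52, g (52 * k + j) * 2 ^ (32 * j) := by
    rw [rowMask_eq, and_pk _ _ _ (fun _ => by norm_num), pk_eq_sum]
    refine Finset.sum_congr rfl fun j hj => ?_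
    rw [Finset.mem_range] at hj
    rw [and_ones _ (slot_bound _ _), show 1664 * k = 32 * (52 * k) by ring, slot_shift,
      slot_lt hg (by omega)]
  rw [mulTerm, hC, hR, Finset.sum_mul_sum]
  refine Finset.sum_congr rfl fun i _ => Finset.sum_congr rfl fun j _ => ?_
  rw [Nat.mul_add, pow_add]
  ring

theorem list_sum_range (n : ℕ) (g : ℕ → ℕ) : ((List.range n).map g).sum = ∑ k ∈ range n, g k := by
  induction n with
  | zero => simp
  | succ n ih => simp [List.range_succ, Finset.sum_range_succ, ih]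

theorem bmul_sound {A B M C R : ℕ} (hM : M = redMask) (hC : C = colMask) (hR : R = rowMask)
    (hA : Small A) (hB : Small B) :
    Small (bmul M C R A B) ∧ bmat (bmul M C R A B) = bmat A * bmat B := by
  obtain ⟨f, hf, eA⟩ := hA
  obtain ⟨g, hg, eB⟩ := hB
  rw [eA, eB]
  let h : ℕ → ℕ := fun t => ∑ k ∈ range 52, f (52 * (t / 52) + k) * g (52 * k + t % 52)
  have hb : ∀ t, h t < 2 ^ 14 := by
    intro t
    have : h t ≤ ∑ _k ∈ range 52, 15 * 15 := Finset.sum_le_sum fun k _ =>
      Nat.mul_le_mul (Nat.le_of_lt_succ (hf _)) (Nat.le_of_lt_succ (hg _))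
    simp only [Finset.sum_const, Finset.card_range, smul_eq_mul] at this
    omega
  have hsum : ((List.range 52).map (mulTerm C R (pk 2704 f) (pk 2704 g))).sum =
      pk 2704 h := by
    rw [hC, hR, list_sum_range, Finset.sum_congr rfl (fun k hk => mulTerm_eq hf hg (Finset.mem_range.1 hk)),
      Finset.sum_comm, pk_eq_sum, show (2704 : ℕ) = 52 * 52 from rfl, sum_range_block]
    refine Finset.sum_congr rfl fun i _ => ?_
    rw [Finset.sum_comm]
    refine Finset.sum_congr rfl fun j hj => ?_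
    rw [Finset.mem_range] at hj
    simp only [h, Finset.sum_mul]
    have e1 : (52 * i + j) / 52 = i := by omega
    have e2 : (52 * i + j) % 52 = j := by omega
    rw [e1, e2]
  have hred : bmul M C R (pk 2704 f) (pk 2704 g) = pk 2704 fun t => h t % 13 := by
    rw [bmul, hsum, hM, redMask_eq, red_pk _ _ hb]
  have h13 : ∀ t, h t % 13 < 16 := fun t => (Nat.mod_lt _ (by norm_num)).trans (by norm_num)
  refine ⟨⟨_, h13, hred⟩, ?_⟩
  ext i j
  have hi := i.isLt
  have hj := j.isLt
  simp only [bmat, Matrix.of_apply, Matrix.mul_apply, hred]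
  rw [slot_lt h13 (by omega)]
  have e1 : (52 * (i : ℕ) + j) / 52 = i := by omega
  have e2 : (52 * (i : ℕ) + j) % 52 = j := by omega
  simp only [h, e1, e2, ZMod.natCast_mod, Nat.cast_sum, Nat.cast_mul]
  rw [← Fin.sum_univ_eq_sum_range]
  refine Finset.sum_congr rfl fun k _ => ?_
  have hk := k.isLt
  rw [slot_lt hf (by omega), slot_lt hg (by omega)]

/-- a scalar matrix -/
def scalB (c : ℕ) : ℕ := c * ((2 ^ (32 * 53 * 52) - 1) / (2 ^ (32 * 53) - 1))

theorem scalB_eq (c : ℕ) : scalB c = pk 2704 fun t => if t % 53 = 0 then c else 0 := by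
  rw [scalB, ← geom_div (32 * 53) 52 (by norm_num), pk_eq_sum, Finset.mul_sum]
  rw [← Finset.sum_filter_add_sum_filter_not (range 2704) (fun t => t % 53 = 0),
    Finset.sum_eq_zero (s := (range 2704).filter fun t => ¬ t % 53 = 0)
      (fun t ht => by simp [(Finset.mem_filter.1 ht).2]), add_zero]
  refine Finset.sum_bij' (fun i _ => 53 * i) (fun t _ => t / 53) ?_ ?_ ?_ ?_ ?_
  · intro i hi
    simp only [Finset.mem_range] at hi
    simp only [Finset.mem_filter, Finset.mem_range]
    omega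
  · intro t ht
    simp only [Finset.mem_filter, Finset.mem_range] at ht
    simp only [Finset.mem_range]
    omega
  · intro i _; omega
  · intro t ht
    simp only [Finset.mem_filter] at ht
    omega
  · intro i _
    simp only [Nat.mul_mod_right, if_true, Nat.mul_assoc]

theorem scalB_small {c : ℕ} (hc : c < 16) : Small (scalB c) :=
  ⟨_, fun t => by split <;> omega, scalB_eq c⟩

theorem bmat_scalB {c : ℕ} (hc : c < 16) :
    bmat (scalB c) = (c : ZMod 13) • (1 : Matrix (Fin 52) (Fin 52) (ZMod 13)) := by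
  ext i j
  have hi := i.isLt
  have hj := j.isLt
  simp only [bmat, Matrix.of_apply, scalB_eq, Matrix.smul_apply, Matrix.one_apply, smul_eq_mul]
  rw [slot_lt (fun t => by split <;> omega) (by omega)]
  by_cases h : i = j
  · subst h
    rw [if_pos (by omega), if_pos rfl, mul_one]
  · have h' : (i : ℕ) ≠ j := fun e => h (Fin.ext e)
    rw [if_neg (by omega), if_neg h, mul_zero, Nat.cast_zero]

theorem bmat_one : bmat (scalB 1) = 1 := by simp [bmat_scalB]

end Cfsg.Agent.H78.F4Mult
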