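import Cfsg.Agent.H78.F4Mult.Engine
import Cfsg.Agent.H78.F4Mult.TwoData0
import Cfsg.Agent.H78.F4Mult.TwoData1

/-!
Kernel checks of part 0 of the certificate modulo two.
-/

set_option autoImplicit false
set_option Elab.async false
set_option maxRecDepth 20000

namespace Cfsg.Agent.H78.F4Mult

theorem twoCheck0 : run2 known1 value1 two0 known0 value0 = true := by decide +kernel

theorem twoCheck1 : run2 known2 value2 two1 known1 value1 = true := by decide +kernel

theorem twoCheck2 : run2 known3 value3 two2 known2 value2 = true := by decide +kernel

theorem twoCheck3 : run2 known4 value4 two3 known3 value3 = true := by decide +kernel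

theorem twoCheck4 : run2 known5 value5 two4 known4 value4 = true := by decide +kernel

end Cfsg.Agent.H78.F4Mult
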