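import Cfsg.Agent.H78.F4Mult.Engine
import Cfsg.Agent.H78.F4Mult.TwoData1
import Cfsg.Agent.H78.F4Mult.TwoData2

/-!
Kernel checks of part 1 of the certificate modulo two.
-/

set_option autoImplicit false
set_option Elab.async false
set_option maxRecDepth 20000

namespace Cfsg.Agent.H78.F4Mult

theorem twoCheck5 : run2 known6 value6 two5 known5 value5 = true := by decide +kernel

theorem twoCheck6 : run2 known7 value7 two6 known6 value6 = true := by decide +kernel

theorem twoCheck7 : run2 known8 value8 two7 known7 value7 = true := by decide +kernel

theorem twoCheck8 : run2 known9 value9 two8 known8 value8 = true := by decide +kernel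

theorem twoCheck9 : run2 known10 value10 two9 known9 value9 = true := by decide +kernel

end Cfsg.Agent.H78.F4Mult
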