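import Cfsg.Agent.H78.F4Mult.Engine
import Cfsg.Agent.H78.F4Mult.TwoData2
import Cfsg.Agent.H78.F4Mult.TwoData3

/-!
Kernel checks of part 2 of the certificate modulo two.
-/

set_option autoImplicit false
set_option Elab.async false
set_option maxRecDepth 20000

namespace Cfsg.Agent.H78.F4Mult

theorem twoCheck10 : run2 known11 value11 two10 known10 value10 = true := by decide +kernel

theorem twoCheck11 : run2 known12 value12 two11 known11 value11 = true := by decide +kernel

theorem twoCheck12 : run2 known13 value13 two12 known12 value12 = true := by decide +kernel

theorem twoCheck13 : run2 known14 value14 two13 known13 value13 = true := by decide +kernel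

theorem twoCheck14 : run2 known15 value15 two14 known14 value14 = true := by decide +kernel

end Cfsg.Agent.H78.F4Mult
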