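import Cfsg.Agent.H78.F4Mult.Engine
import Cfsg.Agent.H78.F4Mult.TwoData3
import Cfsg.Agent.H78.F4Mult.TwoData4

/-!
Kernel checks of part 3 of the certificate modulo two.
-/

set_option autoImplicit false
set_option Elab.async false
set_option maxRecDepth 20000

namespace Cfsg.Agent.H78.F4Mult

theorem twoCheck15 : run2 known16 value16 two15 known15 value15 = true := by decide +kernel

theorem twoCheck16 : run2 known17 value17 two16 known16 value16 = true := by decide +kernel

theorem twoCheck17 : run2 known18 value18 two17 known17 value17 = true := by decide +kernel

theorem twoCheck18 : run2 known19 value19 two18 known18 value18 = true := by decide +kernel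

theorem twoCheck19 : run2 known20 value20 two19 known19 value19 = true := by decide +kernel

end Cfsg.Agent.H78.F4Mult
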