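import Cfsg.Agent.H78.F4Mult.Engine
import Cfsg.Agent.H78.F4Mult.TwoData4

/-!
Kernel checks of part 4 of the certificate modulo two.
-/

set_option autoImplicit false
set_option Elab.async false
set_option maxRecDepth 20000

namespace Cfsg.Agent.H78.F4Mult

theorem twoCheck20 : run2 known21 value21 two20 known20 value20 = true := by decide +kernel

theorem twoCheck21 : run2 known22 value22 two21 known21 value21 = true := by decide +kernel

theorem twoCheck22 : run2 known23 value23 two22 known22 value22 = true := by decide +kernel

theorem twoCheck23 : run2 known24 value24 two23 known23 value23 = true := by decide +kernel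

theorem twoCheck24 : run2 kAll vAll two24 known24 value24 = true := by decide +kernel

end Cfsg.Agent.H78.F4Mult
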