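import Cfsg.Agent.H78.F4Mult.OneCheck
import Cfsg.Agent.H78.F4Mult.TwoCheck0
import Cfsg.Agent.H78.F4Mult.TwoCheck1
import Cfsg.Agent.H78.F4Mult.TwoCheck2
import Cfsg.Agent.H78.F4Mult.TwoCheck3
import Cfsg.Agent.H78.F4Mult.TwoCheck4

/-!
All discrepancies are powers of the one of the base pair, whose square is trivial.
-/

set_option autoImplicit false
set_option maxRecDepth 20000

namespace Cfsg.Agent.H78.F4Mult

theorem table_keys : ((List.range 48).all fun r => bit kAll r && !bit vAll r &&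
    (List.range 48).all fun s => !okPair r s ||
      (bit kAll (key r s) && (bit vAll (key r s) == vbit r s))) = true := by decide +kernel

theorem bit_foldr (l : List ℕ) (k : ℕ) :
    bit (l.foldr (fun j K => K ||| (1 <<< j)) 0) k = true → k ∈ l := by
  induction l with
  | nil => simp [bit]
  | cons a l ih =>
    rw [List.foldr_cons, bit_lor, Bool.or_eq_true, decide_eq_true_eq, List.mem_cons]
    rintro (h | h)
    · exact Or.inr (ih h)
    · exact Or.inl h.symm

theorem seed_known : seedKeys.foldr (fun j K => K ||| (1 <<< j)) 0 = known0 := by decide +kernel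

theorem seed_value : 1 <<< key baseR baseS = value0 := by decide +kernel

theorem base_not_norm : (normTab.all fun t => !Nat.beq (key t.2.1 t.2.2) (key baseR baseS)) = true := by
  decide +kernel

variable {X : Type*} [Group X] {L : ℕ → X} {z : ℕ → Subgroup.center X}

theorem seed_inv1 (hn : ∀ t ∈ normTab, z (key t.2.1 t.2.2) = 1) :
    Inv1 z (z (key baseR baseS)) seedVals := by
  intro k v hk
  simp only [seedVals, look] at hk
  cases hb : Nat.beq (key baseR baseS) k with
  | true =>
    simp only [hb, cond_true, Option.some.injEq] at hk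
    subst hk
    rw [← Nat.eq_of_beq_eq_true hb, zpow_one]
  | false =>
    simp only [hb, cond_false] at hk
    have : ∀ l : List (ℕ × ℕ × ℕ), look k (l.map fun t => (key t.2.1 t.2.2, (0 : ℤ))) = some v →
        v = 0 ∧ ∃ t ∈ l, key t.2.1 t.2.2 = k := by
      intro l
      induction l with
      | nil => simp [look]
      | cons t l ih =>
        intro hl
        simp only [List.map_cons, look] at hl
        cases ht : Nat.beq (key t.2.1 t.2.2) k with
        | true =>
          simp only [ht, cond_true, Option.some.injEq] at hl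
          exact ⟨hl.symm, t, List.mem_cons_self, Nat.eq_of_beq_eq_true ht⟩
        | false =>
          simp only [ht, cond_false] at hl
          obtain ⟨h0, u, hu, he⟩ := ih hl
          exact ⟨h0, u, List.mem_cons_of_mem _ hu, he⟩
    obtain ⟨rfl, t, ht, rfl⟩ := this _ hk
    rw [hn t ht, zpow_zero]

theorem seed_inv2 (hn : ∀ t ∈ normTab, z (key t.2.1 t.2.2) = 1) :
    Inv2 z (z (key baseR baseS)) known0 value0 ∧ ∀ k, bit value0 k = true → bit known0 k = true := by
  have hv : ∀ k, bit value0 k = decide (key baseR baseS = k) := fun k => by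
    rw [← seed_value, bit_eq, Nat.shiftLeft_eq, one_mul, Nat.testBit_two_pow]
  refine ⟨fun k hk => ?_, fun k hk => ?_⟩
  · rw [← seed_known] at hk
    rcases List.mem_cons.1 (bit_foldr _ _ hk) with rfl | h
    · simp [hv]
    · obtain ⟨t, ht, rfl⟩ := List.mem_map.1 h
      have hne := List.all_eq_true.1 base_not_norm t ht
      have hne' : key baseR baseS ≠ key t.2.1 t.2.2 := fun e => by simp [e] at hne
      simp [hv, hne', hn t ht]
  · rw [hv, decide_eq_true_eq] at hk
    rw [← hk, ← seed_known, seedKeys, List.foldr_cons, bit_lor]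
    simp

theorem cert (h : Disc L z) (hn : ∀ t ∈ normTab, z (key t.2.1 t.2.2) = 1) :
    z (key baseR baseS) * z (key baseR baseS) = 1 ∧
      (∀ r, r < 48 → z r = 1) ∧
      ∀ r s, okPair r s = true → z (key r s) = bpow (z (key baseR baseS)) (vbit r s) := by
  have hc : z (key baseR baseS) * z (key baseR baseS) = 1 := by
    obtain ⟨st, hst, h1⟩ := torsOpt_some stageOne_ok
    exact tors_sound _ h (run1_sound _ h _ _ _ (seed_inv1 hn) hst) h1
  obtain ⟨i0, j0⟩ := seed_inv2 hn
  obtain ⟨i1, j1⟩ := run2_sound h hc _ _ _ i0 j0 twoCheck0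
  obtain ⟨i2, j2⟩ := run2_sound h hc _ _ _ i1 j1 twoCheck1
  obtain ⟨i3, j3⟩ := run2_sound h hc _ _ _ i2 j2 twoCheck2
  obtain ⟨i4, j4⟩ := run2_sound h hc _ _ _ i3 j3 twoCheck3
  obtain ⟨i5, j5⟩ := run2_sound h hc _ _ _ i4 j4 twoCheck4
  obtain ⟨i6, j6⟩ := run2_sound h hc _ _ _ i5 j5 twoCheck5
  obtain ⟨i7, j7⟩ := run2_sound h hc _ _ _ i6 j6 twoCheck6
  obtain ⟨i8, j8⟩ := run2_sound h hc _ _ _ i7 j7 twoCheck7
  obtain ⟨i9, j9⟩ := run2_sound h hc _ _ _ i8 j8 twoCheck8
  obtain ⟨i10, j10⟩ := run2_sound h hc _ _ _ i9 j9 twoCheck9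
  obtain ⟨i11, j11⟩ := run2_sound h hc _ _ _ i10 j10 twoCheck10
  obtain ⟨i12, j12⟩ := run2_sound h hc _ _ _ i11 j11 twoCheck11
  obtain ⟨i13, j13⟩ := run2_sound h hc _ _ _ i12 j12 twoCheck12
  obtain ⟨i14, j14⟩ := run2_sound h hc _ _ _ i13 j13 twoCheck13
  obtain ⟨i15, j15⟩ := run2_sound h hc _ _ _ i14 j14 twoCheck14
  obtain ⟨i16, j16⟩ := run2_sound h hc _ _ _ i15 j15 twoCheck15
  obtain ⟨i17, j17⟩ := run2_sound h hc _ _ _ i16 j16 twoCheck16
  obtain ⟨i18, j18⟩ := run2_sound h hc _ _ _ i17 j17 twoCheck17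
  obtain ⟨i19, j19⟩ := run2_sound h hc _ _ _ i18 j18 twoCheck18
  obtain ⟨i20, j20⟩ := run2_sound h hc _ _ _ i19 j19 twoCheck19
  obtain ⟨i21, j21⟩ := run2_sound h hc _ _ _ i20 j20 twoCheck20
  obtain ⟨i22, j22⟩ := run2_sound h hc _ _ _ i21 j21 twoCheck21
  obtain ⟨i23, j23⟩ := run2_sound h hc _ _ _ i22 j22 twoCheck22
  obtain ⟨i24, j24⟩ := run2_sound h hc _ _ _ i23 j23 twoCheck23
  obtain ⟨i25, j25⟩ := run2_sound h hc _ _ _ i24 j24 twoCheck24
  refine ⟨hc, fun r hr => ?_, fun r s hp => ?_⟩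
  · have ht := List.all_eq_true.1 table_keys r (List.mem_range.2 hr)
    simp only [Bool.and_eq_true, Bool.not_eq_true'] at ht
    rw [i25 r ht.1.1, ht.1.2, bpow_false]
  · have hp' := hp
    simp only [okPair, Bool.and_eq_true] at hp'
    have hr := Nat.le_of_ble_eq_true hp'.1.1.1
    have hs := Nat.le_of_ble_eq_true hp'.1.1.2
    have ht := List.all_eq_true.1 table_keys r (List.mem_range.2 hr)
    simp only [Bool.and_eq_true] at ht
    have hts := List.all_eq_true.1 ht.2 s (List.mem_range.2 hs)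
    simp only [hp, Bool.not_true, Bool.false_or, Bool.and_eq_true, beq_iff_eq] at hts
    rw [i25 _ hts.1, hts.2]

end Cfsg.Agent.H78.F4Mult
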