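import Cfsg.Agent.H45.CosetSound
import Cfsg.Agent.H78.F4Mult.Tables

/-!
Relations of a group generated by 48 involutions indexed by the roots of F4, in which Steinberg's
commutator relations over two elements hold up to a central involution.
-/

set_option autoImplicit false

namespace Cfsg.Agent.H78.F4Mult

open Cfsg.Agent.H45 (evalW evalW_cons evalW_append force force_eq)

/-- a bit of a packed set -/
def bit (K e : ℕ) : Bool := Nat.beq ((K >>> e) &&& 1) 1

theorem bit_eq (K e : ℕ) : bit K e = K.testBit e := by
  rw [Bool.eq_iff_iff]
  simp [bit, Nat.testBit, Nat.and_comm (K >>> e) 1, Nat.one_and_eq_mod_two]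

/-- the packed commutator word of a pair -/
def wEnt (r s : ℕ) : ℕ := (wTab.getD r 0 >>> (16 * s)) &&& 65535

/-- decode a commutator word -/
def wDec (e : ℕ) : List ℕ :=
  bif Nat.beq (e &&& 3) 0 then []
  else bif Nat.beq (e &&& 3) 1 then [(e >>> 2) &&& 63]
  else [(e >>> 2) &&& 63, (e >>> 8) &&& 63]

/-- the commutator word of a pair of roots -/
def Wl (r s : ℕ) : List ℕ := wDec (wEnt r s)

/-- whether the relation of a pair carries the central involution -/
def vbit (r s : ℕ) : Bool := bit vTab (48 * r + s)

/-- pairs of roots which are neither equal nor opposite -/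
def okPair (r s : ℕ) : Bool :=
  Nat.blt r 48 && Nat.blt s 48 && !Nat.beq s r && !Nat.beq (r + s) 47

/-- the key of a pair -/
def key (r s : ℕ) : ℕ := 48 + 48 * r + s

/-- a power of a group element given by a bit -/
def bpow {X : Type*} [Monoid X] (B : X) (b : Bool) : X := bif b then B else 1

@[simp] theorem bpow_false {X : Type*} [Monoid X] (B : X) : bpow B false = 1 := rfl

@[simp] theorem bpow_true {X : Type*} [Monoid X] (B : X) : bpow B true = B := rfl

/-- the relations with a central involution -/
structure Rel {X : Type*} [Group X] (L : ℕ → X) (B : X) : Prop where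
  sq : ∀ r, r < 48 → L r * L r = 1
  pair : ∀ r s, okPair r s = true →
    L s * L r = L r * L s * evalW L (Wl r s) * bpow B (vbit r s)
  cent : B ∈ Subgroup.center X
  invol : B * B = 1

end Cfsg.Agent.H78.F4Mult
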