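import Cfsg.Agent.H78.F4Mult.Defs

/-!
A checker for linear relations between central discrepancies of the commutator relations of F4:
a word of three root elements is collected in two ways, and the discrepancies met on the two sides
have equal products.
-/

set_option autoImplicit false

namespace Cfsg.Agent.H78.F4Mult

open Cfsg.Agent.H45 (evalW evalW_cons evalW_append force force_eq)

/-- one move at a position: delete a square, or exchange a pair -/
def mv : ℕ → List ℕ → Option (ℕ × List ℕ)
  | 0, a :: b :: t =>
    bif Nat.beq a b then (bif Nat.blt a 48 then some (a, t) else none)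
    else bif okPair b a then some (key b a, b :: a :: (Wl b a ++ t)) else none
  | p + 1, x :: t =>
    match mv p t with
    | some (k, t') => some (k, x :: t')
    | none => none
  | _, _ => none

/-- a list of moves, collecting the keys -/
def mvs : List ℕ → List ℕ → Option (List ℕ × List ℕ)
  | [], w => some ([], w)
  | p :: ps, w =>
    match mv p w with
    | none => none
    | some (k, w') =>
      match mvs ps w' with
      | none => none
      | some (ks, wf) => some (k :: ks, wf)

/-- unpack a move list: six bits per move, shifted by one -/
def unpack : ℕ → ℕ → List ℕ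
  | 0, _ => []
  | n + 1, c => bif Nat.beq c 0 then [] else ((c &&& 63) - 1) :: unpack n (c >>> 6)

/-- unpack a word of three letters -/
def word3 (w : ℕ) : List ℕ := [w % 48, w / 48 % 48, w / 2304]

/-- equality of lists -/
def beqN : List ℕ → List ℕ → Bool
  | [], [] => true
  | a :: as, b :: bs => Nat.beq a b && beqN as bs
  | _, _ => false

theorem beqN_eq : ∀ {a b : List ℕ}, beqN a b = true → a = b := by
  intro a
  induction a with
  | nil => intro b; cases b <;> simp [beqN]
  | cons x a ih =>
    intro b; cases b with
    | nil => simp [beqN]
    | cons y b =>
      simp only [beqN, Bool.and_eq_true, Nat.beq_eq, List.cons.injEq]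
      exact fun h => ⟨h.1, ih h.2⟩

/-- remove one occurrence -/
def del1 (a : ℕ) : List ℕ → Option (List ℕ)
  | [] => none
  | b :: l =>
    bif Nat.beq a b then some l else
      match del1 a l with
      | some l' => some (b :: l')
      | none => none

/-- cancel common entries -/
def cancel : List ℕ → List ℕ → List ℕ × List ℕ
  | [], B => ([], B)
  | a :: A, B =>
    match del1 a B with
    | some B' => cancel A B'
    | none => (a :: (cancel A B).1, (cancel A B).2)

/-- the two sides of the equation given by a step -/
def sides (w mA mB : ℕ) : Option (List ℕ × List ℕ) :=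
  match mvs (unpack 40 mA) (word3 w) with
  | none => none
  | some (ka, wa) =>
    match mvs (unpack 40 mB) (word3 w) with
    | none => none
    | some (kb, wb) => bif beqN wa wb then some (cancel ka kb) else none

/-- look up a value -/
def look (k : ℕ) : List (ℕ × ℤ) → Option ℤ
  | [] => none
  | (j, v) :: st => bif Nat.beq j k then some v else look k st

/-- count the unknown key and add the values of the others -/
def tally1 (k0 : ℕ) (st : List (ℕ × ℤ)) : List ℕ → Option (ℕ × ℤ)
  | [] => some (0, 0)
  | a :: l =>
    match tally1 k0 st l with
    | none => none
    | some (n, v) =>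
      bif Nat.beq a k0 then some (n + 1, v)
      else match look a st with
        | some u => some (n, u + v)
        | none => none

/-- one step with integer values -/
def step1 (st : List (ℕ × ℤ)) (s : ℕ × ℕ × ℕ × ℕ) : Option (List (ℕ × ℤ)) :=
  match sides s.2.1 s.2.2.1 s.2.2.2 with
  | none => none
  | some (A, B) =>
    match tally1 s.1 st A, tally1 s.1 st B with
    | some (n, a), some (m, b) => bif Nat.beq n (m + 1) then some ((s.1, b - a) :: st) else none
    | _, _ => none

/-- several steps with integer values -/
def run1 : List (ℕ × ℕ × ℕ × ℕ) → List (ℕ × ℤ) → Option (List (ℕ × ℤ))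
  | [], st => some st
  | s :: l, st =>
    match step1 st s with
    | some st' => run1 l st'
    | none => none

/-- the step giving exponent two -/
def tors (st : List (ℕ × ℤ)) (s : ℕ × ℕ × ℕ) : Bool :=
  match sides s.1 s.2.1 s.2.2 with
  | none => false
  | some (A, B) =>
    match tally1 9999 st A, tally1 9999 st B with
    | some (0, a), some (0, b) => decide (a - b = 2) || decide (b - a = 2)
    | _, _ => false

/-- count the unknown key and add the values of the others modulo two -/
def tally2 (k0 K V : ℕ) : List ℕ → Option (ℕ × Bool)
  | [] => some (0, false)
  | a :: l =>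
    match tally2 k0 K V l with
    | none => none
    | some (n, v) =>
      bif Nat.beq a k0 then some (n + 1, v)
      else bif bit K a then some (n, xor (bit V a) v) else none

/-- one step modulo two -/
def step2 (K V : ℕ) (s : ℕ × ℕ × ℕ × ℕ) : Option (ℕ × ℕ) :=
  bif bit K s.1 then none else
  match sides s.2.1 s.2.2.1 s.2.2.2 with
  | none => none
  | some (A, B) =>
    match tally2 s.1 K V A, tally2 s.1 K V B with
    | some (n, a), some (m, b) =>
      bif Nat.beq n (m + 1) then
        some (K ||| (1 <<< s.1), bif xor a b then V ||| (1 <<< s.1) else V)
      else none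
    | _, _ => none

/-- several steps modulo two, comparing the final state -/
noncomputable def run2 (K' V' : ℕ) : List (ℕ × ℕ × ℕ × ℕ) → ℕ → ℕ → Bool
  | [], K, V => Nat.beq K K' && Nat.beq V V'
  | s :: l, K, V =>
    match step2 K V s with
    | some (K₁, V₁) => force K₁ fun K₂ => force V₁ fun V₂ => run2 K' V' l K₂ V₂
    | none => false

/-! ### Soundness -/

section

variable {X : Type*} [Group X]

/-- the centre as a commutative group -/
abbrev centerCommGroup : CommGroup (Subgroup.center X) :=
  { (inferInstance : Group (Subgroup.center X)) with
    mul_comm := fun a b => Subtype.ext (Subgroup.mem_center_iff.1 b.2 a) }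

attribute [local instance] centerCommGroup

/-- the defining equations of the discrepancies -/
structure Disc (L : ℕ → X) (z : ℕ → Subgroup.center X) : Prop where
  sq : ∀ r, r < 48 → L r * L r = (z r : X)
  pair : ∀ r s, okPair r s = true →
    L s * L r = L r * L s * evalW L (Wl r s) * (z (key r s) : X)

variable {L : ℕ → X} {z : ℕ → Subgroup.center X}

theorem center_left (c : Subgroup.center X) (g : X) : g * (c : X) = (c : X) * g :=
  Subgroup.mem_center_iff.1 c.2 g

theorem mv_sound (h : Disc L z) :
    ∀ (p : ℕ) (w : List ℕ) (k : ℕ) (w' : List ℕ), mv p w = some (k, w') →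
      evalW L w = (z k : X) * evalW L w' := by
  intro p
  induction p with
  | zero =>
    intro w k w' hw
    match w with
    | [] => simp [mv] at hw
    | [_] => simp [mv] at hw
    | a :: b :: t =>
      simp only [mv] at hw
      cases hab : Nat.beq a b with
      | true =>
        simp only [hab, cond_true] at hw
        cases ha : Nat.blt a 48 with
        | false => simp [ha] at hw
        | true =>
          simp only [ha, cond_true, Option.some.injEq, Prod.mk.injEq] at hw
          obtain ⟨rfl, rfl⟩ := hw
          obtain rfl := Nat.eq_of_beq_eq_true hab
          rw [evalW_cons, evalW_cons, ← mul_assoc, h.sq a (Nat.le_of_ble_eq_true ha)]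
      | false =>
        simp only [hab, cond_false] at hw
        cases hp : okPair b a with
        | false => simp [hp] at hw
        | true =>
          simp only [hp, cond_true, Option.some.injEq, Prod.mk.injEq] at hw
          obtain ⟨rfl, rfl⟩ := hw
          rw [evalW_cons, evalW_cons, ← mul_assoc, h.pair b a hp, center_left,
            evalW_cons, evalW_cons, evalW_append]
          simp only [mul_assoc]
  | succ p ih =>
    intro w k w' hw
    match w with
    | [] => simp [mv] at hw
    | x :: t =>
      simp only [mv] at hw
      cases hm : mv p t with
      | none => simp [hm] at hw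
      | some kt =>
        obtain ⟨k₁, t'⟩ := kt
        simp only [hm, Option.some.injEq, Prod.mk.injEq] at hw
        obtain ⟨rfl, rfl⟩ := hw
        rw [evalW_cons, ih t k₁ t' hm, evalW_cons, ← mul_assoc, center_left, mul_assoc]

theorem mvs_sound (h : Disc L z) :
    ∀ (ps w ks wf : List ℕ), mvs ps w = some (ks, wf) →
      evalW L w = (((ks.map z).prod : Subgroup.center X) : X) * evalW L wf := by
  intro ps
  induction ps with
  | nil =>
    intro w ks wf hw
    simp only [mvs, Option.some.injEq, Prod.mk.injEq] at hw
    obtain ⟨rfl, rfl⟩ := hw
    simp
  | cons p ps ih =>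
    intro w ks wf hw
    simp only [mvs] at hw
    cases hm : mv p w with
    | none => simp [hm] at hw
    | some kw =>
      obtain ⟨k, w'⟩ := kw
      simp only [hm] at hw
      cases hn : mvs ps w' with
      | none => simp [hn] at hw
      | some r =>
        obtain ⟨ks', wf'⟩ := r
        simp only [hn, Option.some.injEq, Prod.mk.injEq] at hw
        obtain ⟨rfl, rfl⟩ := hw
        rw [mv_sound h p w k w' hm, ih w' ks' wf' hn, List.map_cons, List.prod_cons,
          Subgroup.coe_mul, mul_assoc]

theorem del1_sound {C : Type*} [CommGroup C] (f : ℕ → C) (a : ℕ) :
    ∀ l l' : List ℕ, del1 a l = some l' → (l.map f).prod = f a * (l'.map f).prod := by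
  intro l
  induction l with
  | nil => intro l' h; simp [del1] at h
  | cons b l ih =>
    intro l' h
    simp only [del1] at h
    cases hab : Nat.beq a b with
    | true =>
      simp only [hab, cond_true, Option.some.injEq] at h
      subst h
      rw [Nat.eq_of_beq_eq_true hab]
      simp
    | false =>
      simp only [hab, cond_false] at h
      cases hd : del1 a l with
      | none => simp [hd] at h
      | some l₁ =>
        simp only [hd, Option.some.injEq] at h
        subst h
        simp only [List.map_cons, List.prod_cons, ih l₁ hd, mul_left_comm]

theorem cancel_sound {C : Type*} [CommGroup C] (f : ℕ → C) :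
    ∀ A B : List ℕ, (A.map f).prod = (B.map f).prod →
      ((cancel A B).1.map f).prod = ((cancel A B).2.map f).prod := by
  suffices H : ∀ A B : List ℕ,
      ((cancel A B).1.map f).prod * (B.map f).prod = ((cancel A B).2.map f).prod * (A.map f).prod by
    intro A B hAB
    have := H A B
    rw [hAB] at this
    exact mul_right_cancel this
  intro A
  induction A with
  | nil => intro B; simp [cancel]
  | cons a A ih =>
    intro B
    cases hd : del1 a B with
    | some B' =>
      simp only [cancel, hd]
      rw [del1_sound f a B B' hd, List.map_cons, List.prod_cons, mul_left_comm, ih B', mul_left_comm]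
    | none =>
      simp only [cancel, hd, List.map_cons, List.prod_cons]
      rw [mul_assoc, ih B, mul_left_comm]

theorem sides_sound (h : Disc L z) {w mA mB : ℕ} {A B : List ℕ}
    (hs : sides w mA mB = some (A, B)) : (A.map z).prod = (B.map z).prod := by
  simp only [sides] at hs
  cases ha : mvs (unpack 40 mA) (word3 w) with
  | none => simp [ha] at hs
  | some ra =>
    obtain ⟨ka, wa⟩ := ra
    simp only [ha] at hs
    cases hb : mvs (unpack 40 mB) (word3 w) with
    | none => simp [hb] at hs
    | some rb =>
      obtain ⟨kb, wb⟩ := rb
      simp only [hb] at hs
      cases he : beqN wa wb with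
      | false => simp [he] at hs
      | true =>
        simp only [he, cond_true, Option.some.injEq] at hs
        have e1 := mvs_sound h _ _ _ _ ha
        have e2 := mvs_sound h _ _ _ _ hb
        rw [beqN_eq he] at e1
        have e3 : (ka.map z).prod = (kb.map z).prod :=
          Subtype.ext (mul_right_cancel (e1.symm.trans e2))
        have := cancel_sound z ka kb e3
        rwa [hs] at this

variable (c : Subgroup.center X)

/-- known values are correct -/
def Inv1 (z : ℕ → Subgroup.center X) (c : Subgroup.center X) (st : List (ℕ × ℤ)) : Prop :=
  ∀ k v, look k st = some v → z k = c ^ v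

theorem tally1_sound {st : List (ℕ × ℤ)} (hi : Inv1 z c st) (k0 : ℕ) :
    ∀ (l : List ℕ) (n : ℕ) (v : ℤ), tally1 k0 st l = some (n, v) →
      (l.map z).prod = z k0 ^ n * c ^ v := by
  intro l
  induction l with
  | nil =>
    intro n v h
    simp only [tally1, Option.some.injEq, Prod.mk.injEq] at h
    obtain ⟨rfl, rfl⟩ := h
    simp
  | cons a l ih =>
    intro n v h
    simp only [tally1] at h
    cases ht : tally1 k0 st l with
    | none => simp [ht] at h
    | some nv =>
      obtain ⟨n', v'⟩ := nv
      simp only [ht] at h
      cases hak : Nat.beq a k0 with
      | true =>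
        simp only [hak, cond_true, Option.some.injEq, Prod.mk.injEq] at h
        obtain ⟨rfl, rfl⟩ := h
        rw [List.map_cons, List.prod_cons, ih _ _ ht, Nat.eq_of_beq_eq_true hak, pow_succ', mul_assoc]
      | false =>
        simp only [hak, cond_false] at h
        cases hl : look a st with
        | none => simp [hl] at h
        | some u =>
          simp only [hl, Option.some.injEq, Prod.mk.injEq] at h
          obtain ⟨rfl, rfl⟩ := h
          rw [List.map_cons, List.prod_cons, ih _ _ ht, hi a u hl, zpow_add, mul_left_comm]

theorem step1_sound (h : Disc L z) {st st' : List (ℕ × ℤ)} (hi : Inv1 z c st)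
    {s : ℕ × ℕ × ℕ × ℕ} (hs : step1 st s = some st') : Inv1 z c st' := by
  simp only [step1] at hs
  cases hab : sides s.2.1 s.2.2.1 s.2.2.2 with
  | none => simp [hab] at hs
  | some AB =>
    obtain ⟨A, B⟩ := AB
    simp only [hab] at hs
    cases ha : tally1 s.1 st A with
    | none => simp [ha] at hs
    | some na =>
      obtain ⟨n, a⟩ := na
      cases hb : tally1 s.1 st B with
      | none => simp [ha, hb] at hs
      | some mb =>
        obtain ⟨m, b⟩ := mb
        simp only [ha, hb] at hs
        cases hn : Nat.beq n (m + 1) with
        | false => simp [hn] at hs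
        | true =>
          simp only [hn, cond_true, Option.some.injEq] at hs
          subst hs
          have e := sides_sound h hab
          rw [tally1_sound c hi _ A n a ha, tally1_sound c hi _ B m b hb, Nat.eq_of_beq_eq_true hn,
            pow_succ, mul_assoc] at e
          have e' : z s.1 * c ^ a = c ^ b := mul_left_cancel e
          intro k v hk
          simp only [look] at hk
          cases hjk : Nat.beq s.1 k with
          | true =>
            simp only [hjk, cond_true, Option.some.injEq] at hk
            subst hk
            rw [← Nat.eq_of_beq_eq_true hjk, zpow_sub, ← e', mul_inv_cancel_right]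
          | false =>
            simp only [hjk, cond_false] at hk
            exact hi k v hk

theorem run1_sound (h : Disc L z) : ∀ (l : List (ℕ × ℕ × ℕ × ℕ)) (st st' : List (ℕ × ℤ)),
    Inv1 z c st → run1 l st = some st' → Inv1 z c st' := by
  intro l
  induction l with
  | nil =>
    intro st st' hi hr
    simp only [run1, Option.some.injEq] at hr
    exact hr ▸ hi
  | cons s l ih =>
    intro st st' hi hr
    simp only [run1] at hr
    cases hs : step1 st s with
    | none => simp [hs] at hr
    | some st₁ =>
      simp only [hs] at hr
      exact ih st₁ st' (step1_sound c h hi hs) hr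

theorem tors_sound (h : Disc L z) {st : List (ℕ × ℤ)} (hi : Inv1 z c st) {s : ℕ × ℕ × ℕ}
    (hs : tors st s = true) : c * c = 1 := by
  simp only [tors] at hs
  cases hab : sides s.1 s.2.1 s.2.2 with
  | none => simp [hab] at hs
  | some AB =>
    obtain ⟨A, B⟩ := AB
    simp only [hab] at hs
    split at hs
    · next a b ha hb =>
      have e := sides_sound h hab
      rw [tally1_sound c hi _ A 0 a ha, tally1_sound c hi _ B 0 b hb, pow_zero, one_mul, one_mul] at e
      have e2 : c ^ (a - b) = 1 := by rw [zpow_sub, e, mul_inv_cancel]
      simp only [Bool.or_eq_true, decide_eq_true_eq] at hs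
      rcases hs with hs | hs
      · rwa [hs, zpow_two] at e2
      · rw [show a - b = -(2 : ℤ) by omega, zpow_neg, inv_eq_one, zpow_two] at e2
        exact e2
    · exact absurd hs (by simp)

/-- known values modulo two are correct -/
def Inv2 (z : ℕ → Subgroup.center X) (c : Subgroup.center X) (K V : ℕ) : Prop :=
  ∀ k, bit K k = true → z k = bpow c (bit V k)

variable {c}

theorem bpow_xor (hc : c * c = 1) (a b : Bool) : bpow c (xor a b) = bpow c a * bpow c b := by
  cases a <;> cases b <;> simp [hc]

theorem tally2_sound (hc : c * c = 1) {K V : ℕ} (hi : Inv2 z c K V) (k0 : ℕ) :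
    ∀ (l : List ℕ) (n : ℕ) (v : Bool), tally2 k0 K V l = some (n, v) →
      (l.map z).prod = z k0 ^ n * bpow c v := by
  intro l
  induction l with
  | nil =>
    intro n v h
    simp only [tally2, Option.some.injEq, Prod.mk.injEq] at h
    obtain ⟨rfl, rfl⟩ := h
    simp
  | cons a l ih =>
    intro n v h
    simp only [tally2] at h
    cases ht : tally2 k0 K V l with
    | none => simp [ht] at h
    | some nv =>
      obtain ⟨n', v'⟩ := nv
      simp only [ht] at h
      cases hak : Nat.beq a k0 with
      | true =>
        simp only [hak, cond_true, Option.some.injEq, Prod.mk.injEq] at h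
        obtain ⟨rfl, rfl⟩ := h
        rw [List.map_cons, List.prod_cons, ih _ _ ht, Nat.eq_of_beq_eq_true hak, pow_succ', mul_assoc]
      | false =>
        simp only [hak, cond_false] at h
        cases hl : bit K a with
        | false => simp [hl] at h
        | true =>
          simp only [hl, cond_true, Option.some.injEq, Prod.mk.injEq] at h
          obtain ⟨rfl, rfl⟩ := h
          rw [List.map_cons, List.prod_cons, ih _ _ ht, hi a hl, bpow_xor hc, mul_left_comm]

theorem bit_lor (K j k : ℕ) : bit (K ||| (1 <<< j)) k = (bit K k || decide (j = k)) := by
  rw [bit_eq, bit_eq, Nat.testBit_or, Nat.shiftLeft_eq, one_mul, Nat.testBit_two_pow]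

theorem step2_sound (h : Disc L z) (hc : c * c = 1) {K V K' V' : ℕ} (hi : Inv2 z c K V)
    (hV : ∀ k, bit V k = true → bit K k = true)
    {s : ℕ × ℕ × ℕ × ℕ} (hs : step2 K V s = some (K', V')) :
    Inv2 z c K' V' ∧ ∀ k, bit V' k = true → bit K' k = true := by
  simp only [step2] at hs
  cases hk0 : bit K s.1 with
  | true => simp [hk0] at hs
  | false =>
    simp only [hk0, cond_false] at hs
    cases hab : sides s.2.1 s.2.2.1 s.2.2.2 with
    | none => simp [hab] at hs
    | some AB =>
      obtain ⟨A, B⟩ := AB
      simp only [hab] at hs
      cases ha : tally2 s.1 K V A with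
      | none => simp [ha] at hs
      | some na =>
        obtain ⟨n, a⟩ := na
        cases hb : tally2 s.1 K V B with
        | none => simp [ha, hb] at hs
        | some mb =>
          obtain ⟨m, b⟩ := mb
          simp only [ha, hb] at hs
          cases hn : Nat.beq n (m + 1) with
          | false => simp [hn] at hs
          | true =>
            simp only [hn, cond_true, Option.some.injEq, Prod.mk.injEq] at hs
            obtain ⟨rfl, rfl⟩ := hs
            have e := sides_sound h hab
            rw [tally2_sound hc hi _ A n a ha, tally2_sound hc hi _ B m b hb,
              Nat.eq_of_beq_eq_true hn, pow_succ, mul_assoc] at e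
            have e' : z s.1 * bpow c a = bpow c b := mul_left_cancel e
            have e2 : z s.1 = bpow c (xor a b) := by
              rw [bpow_xor hc, mul_comm, ← e', mul_assoc, ← bpow_xor hc]
              simp
            have hnv : bit V s.1 = false := by
              cases hv : bit V s.1 with
              | false => rfl
              | true => rw [hV _ hv] at hk0; exact hk0
            refine ⟨fun k hk => ?_, fun k hk => ?_⟩
            · rw [bit_lor] at hk
              by_cases hjk : s.1 = k
              · subst hjk
                cases hx : xor a b with
                | true => simp [cond_true, bit_lor, e2, hx]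
                | false => simp [cond_false, hnv, e2, hx]
              · have hk' : bit K k = true := by simpa [hjk] using hk
                cases hx : xor a b with
                | true => simp [cond_true, bit_lor, hjk, hi k hk']
                | false => simp [cond_false, hi k hk']
            · rw [bit_lor]
              cases hx : xor a b with
              | true =>
                simp only [hx, cond_true, bit_lor] at hk
                by_cases hjk : s.1 = k <;> simp_all
              | false =>
                simp only [hx, cond_false] at hk
                simp [hV k hk]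

theorem run2_sound (h : Disc L z) (hc : c * c = 1) {K' V' : ℕ} :
    ∀ (l : List (ℕ × ℕ × ℕ × ℕ)) (K V : ℕ), Inv2 z c K V →
      (∀ k, bit V k = true → bit K k = true) → run2 K' V' l K V = true →
      Inv2 z c K' V' ∧ ∀ k, bit V' k = true → bit K' k = true := by
  intro l
  induction l with
  | nil =>
    intro K V hi hV hr
    simp only [run2, Bool.and_eq_true] at hr
    rw [← Nat.eq_of_beq_eq_true hr.1, ← Nat.eq_of_beq_eq_true hr.2]
    exact ⟨hi, hV⟩
  | cons s l ih =>
    intro K V hi hV hr
    simp only [run2] at hr
    cases hs : step2 K V s with
    | none => simp [hs] at hr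
    | some KV =>
      obtain ⟨K₁, V₁⟩ := KV
      simp only [hs, force_eq] at hr
      obtain ⟨h1, h2⟩ := step2_sound h hc hi hV hs
      exact ih K₁ V₁ h1 h2 hr

end

end Cfsg.Agent.H78.F4Mult
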