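import Cfsg.Agent.H78.F4Mult.RepSound

/-!
Kernel checks of involutions, reflections and representative relations.
-/

set_option autoImplicit false
set_option Elab.async false
set_option maxRecDepth 20000

namespace Cfsg.Agent.H78.F4Mult

theorem small_all : smallChk = true := by decide +kernel

theorem inv_all : invChk = true := by decide +kernel

theorem conj0 : conjChk 0 = true := by decide +kernel

theorem conj1 : conjChk 1 = true := by decide +kernel

theorem conj2 : conjChk 2 = true := by decide +kernel

theorem conj3 : conjChk 3 = true := by decide +kernel

theorem refl_all : ((List.range 4).all reflChk) = true := by decide +kernel

theorem rep_all : repPairs.all relChk = true := by decide +kernel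

theorem bigs_length : bigs.length = 52 := by decide +kernel

end Cfsg.Agent.H78.F4Mult
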