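import Cfsg.Agent.H78.F4Mult.Orbit
import Cfsg.Agent.H78.F4Mult.RepCheck

/-!
The 48 matrices generate a group in which the relations hold up to minus the identity.
-/

set_option autoImplicit false
set_option maxRecDepth 20000
set_option maxHeartbeats 400000

namespace Cfsg.Agent.H78.F4Mult

open Cfsg.Agent.H45 (evalW evalW_cons evalW_nil)

/-- invertible matrices of size 52 -/
abbrev GL52 : Type := GL (Fin 52) (ZMod 13)

theorem bmat_neg : bmat (scalB 12) = -1 := by
  rw [bmat_scalB (by norm_num), show ((12 : ℕ) : ZMod 13) = -1 by decide, neg_one_smul]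

theorem chk_one {w : List ℕ} (hw : ∀ l ∈ w, l < 52) (h : chk w 1 = true) :
    (w.map letterMat).prod = 1 := by
  rw [chk_sound small_all (by rw [bigs_length]; exact hw) h, bmat_one]

theorem letter_sq {l : ℕ} (hl : l < 52) : letterMat l * letterMat l = 1 := by
  have key : chk [l, l] 1 = true := by
    by_cases h : l < 48
    · exact List.all_eq_true.1 inv_all l (List.mem_range.2 h)
    · have hr := List.all_eq_true.1 refl_all (l - 48) (List.mem_range.2 (by omega))
      simp only [reflChk, Bool.and_eq_true] at hr
      have h2 := hr.2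
      rwa [show 48 + (l - 48) = l by omega] at h2
  simpa using chk_one (by simp [hl]) key

attribute [local irreducible] letterMat chk scalB bmat vbit Wl

/-- a letter as an invertible matrix -/
noncomputable def rmU (l : ℕ) : GL52 :=
  if h : l < 52 then ⟨letterMat l, letterMat l, letter_sq h, letter_sq h⟩ else 1

theorem rmU_val {l : ℕ} (hl : l < 52) :
    (rmU l : Matrix (Fin 52) (Fin 52) (ZMod 13)) = letterMat l := by
  simp [rmU, hl]

theorem rmU_sq {l : ℕ} (hl : l < 52) : rmU l * rmU l = 1 := by
  refine Units.ext ?_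
  rw [Units.val_mul, rmU_val hl, Units.val_one, letter_sq hl]

theorem rmU_word {w : List ℕ} (hw : ∀ l ∈ w, l < 52) :
    ((evalW rmU w : GL52) : Matrix (Fin 52) (Fin 52) (ZMod 13)) = (w.map letterMat).prod := by
  induction w with
  | nil => simp [evalW]
  | cons x w ih =>
    rw [evalW_cons, Units.val_mul, rmU_val (hw x List.mem_cons_self),
      ih fun m hm => hw m (List.mem_cons_of_mem _ hm), List.map_cons, List.prod_cons]

theorem rmU_eval_one {w : List ℕ} (hw : ∀ l ∈ w, l < 52) (h : chk w 1 = true) : evalW rmU w = 1 :=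
  Units.ext (by rw [rmU_word hw, chk_one hw h, Units.val_one])

attribute [local irreducible] rmU

/-- minus the identity -/
noncomputable def negOne : GL52 := -1

theorem negOne_center : negOne ∈ Subgroup.center GL52 := by
  rw [Subgroup.mem_center_iff]
  intro g
  refine Units.ext ?_
  simp [negOne]

theorem rmU_eval_scal {w : List ℕ} (hw : ∀ l ∈ w, l < 52) (b : Bool)
    (h : chk w (bif b then 12 else 1) = true) : evalW rmU w = bpow negOne b := by
  refine Units.ext ?_
  rw [rmU_word hw, chk_sound small_all (by rw [bigs_length]; exact hw) h]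
  cases b <;> simp [bmat_one, bmat_neg, negOne]

theorem negOne_sq : negOne * negOne = 1 := Units.ext (by simp [negOne])

theorem evalW_reverse {X : Type*} [Group X] {L : ℕ → X} :
    ∀ w : List ℕ, (∀ l ∈ w, L l * L l = 1) → evalW L w.reverse = (evalW L w)⁻¹ := by
  intro w
  induction w with
  | nil => intro _; simp [evalW]
  | cons x w ih =>
    intro hw
    rw [List.reverse_cons, Cfsg.Agent.H45.evalW_append, ih fun l hl => hw l (List.mem_cons_of_mem _ hl)]
    simp only [evalW_cons, evalW_nil, mul_one, mul_inv_rev]
    congr 1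
    exact eq_inv_of_mul_eq_one_left (hw x List.mem_cons_self)

theorem pair_of_word {G : Type*} [Group G] {L : ℕ → G} {r s : ℕ} {W : List ℕ} {c : G}
    (hr : L r * L r = 1) (hs : L s * L s = 1) (hW : ∀ a ∈ W, L a * L a = 1)
    (hc : c ∈ Subgroup.center G)
    (e : evalW L ([s, r] ++ (W.reverse ++ [s, r])) = c) :
    L s * L r = L r * L s * evalW L W * c := by
  simp only [Cfsg.Agent.H45.evalW_append, evalW_cons, evalW_nil, mul_one, evalW_reverse W hW] at e
  have hinv : (L s * L r)⁻¹ = L r * L s := by
    rw [mul_inv_rev, inv_eq_of_mul_eq_one_right hr, inv_eq_of_mul_eq_one_right hs]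
  have e' : L s * L r = c * ((evalW L W)⁻¹ * (L s * L r))⁻¹ := by
    rw [← e]
    group
  rw [e', mul_inv_rev, inv_inv, hinv]
  exact (Subgroup.mem_center_iff.1 hc _).symm

theorem conj_of_word {G : Type*} [Group G] {L : ℕ → G} {n r q : ℕ} (hn : L n * L n = 1)
    (hq : L q * L q = 1) (e : evalW L [n, r, n, q] = 1) : L n * L r * (L n)⁻¹ = L q := by
  simp only [evalW_cons, evalW_nil, mul_one] at e
  rw [inv_eq_of_mul_eq_one_right hn]
  have e2 := congrArg (· * L q) e
  simp only [mul_assoc, hq, mul_one, one_mul] at e2
  rw [mul_assoc]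
  exact e2

attribute [local irreducible] negOne perm

theorem rep_words_lt : (repPairs.all fun p => (Wl p.1 p.2).all fun a => Nat.blt a 48) = true := by
  decide +kernel

theorem rep_rel {p : ℕ × ℕ} (hp : p ∈ repPairs) :
    okPair p.1 p.2 = true ∧ PairRel rmU negOne p.1 p.2 := by
  have h := List.all_eq_true.1 rep_all p hp
  simp only [relChk, Bool.and_eq_true] at h
  refine ⟨h.1, ?_⟩
  obtain ⟨h1, h2⟩ := okPair_lt h.1
  have hW : ∀ a ∈ Wl p.1 p.2, a < 52 := fun a ha => by
    have := Nat.le_of_ble_eq_true (List.all_eq_true.1 (List.all_eq_true.1 rep_words_lt p hp) a ha)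
    omega
  have e := rmU_eval_scal (w := [p.2, p.1] ++ ((Wl p.1 p.2).reverse ++ [p.2, p.1]))
    (by simp only [List.mem_append, List.mem_cons, List.mem_reverse, List.not_mem_nil, or_false]
        rintro l ((rfl | rfl) | hl | rfl | rfl) <;> first | omega | exact hW _ hl) _ h.2
  exact pair_of_word (rmU_sq (by omega)) (rmU_sq (by omega)) (fun l hl => rmU_sq (hW l hl))
    (by cases vbit p.1 p.2
        · exact one_mem _
        · exact negOne_center) e

theorem refl_conj {i : ℕ} (hi : i < 4) {r : ℕ} (hr : r < 48) :
    rmU (48 + i) * rmU r * (rmU (48 + i))⁻¹ = rmU (perm i r) := by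
  have hc : conjChk i = true := by
    interval_cases i
    · exact conj0
    · exact conj1
    · exact conj2
    · exact conj3
  have h := List.all_eq_true.1 hc r (List.mem_range.2 hr)
  simp only [Bool.and_eq_true] at h
  have hp : perm i r < 48 := Nat.le_of_ble_eq_true h.1
  have e := rmU_eval_one (w := [48 + i, r, 48 + i, perm i r])
    (by simp only [List.mem_cons, List.not_mem_nil, or_false]
        rintro l (rfl | rfl | rfl | rfl) <;> omega) h.2
  exact conj_of_word (L := rmU) (n := 48 + i) (r := r) (q := perm i r) (rmU_sq (Nat.add_lt_add_left hi 48))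
    (rmU_sq (Nat.lt_trans hp (by norm_num))) e

theorem rmU_rel : Rel rmU negOne where
  sq r hr := rmU_sq (by omega)
  pair r s h := by
    refine all_pairs (φ := fun i => (MulAut.conj (rmU (48 + i))).toMonoidHom) ?_ ?_
      (fun p hp => rep_rel hp) r s h
    · intro i hi r hr
      simpa [MulAut.conj_apply] using refl_conj hi hr
    · intro i _
      show rmU (48 + i) * negOne * (rmU (48 + i))⁻¹ = negOne
      rw [Subgroup.mem_center_iff.1 negOne_center, mul_inv_cancel_right]
  cent := negOne_center
  invol := negOne_sq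

theorem negOne_ne : negOne ≠ 1 := by
  intro h
  have := congrArg (fun M : GL52 => (M : Matrix (Fin 52) (Fin 52) (ZMod 13)) 0 0) h
  simp [negOne] at this
  exact absurd this (by decide)

end Cfsg.Agent.H78.F4Mult
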