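import Cfsg.Agent.H78.F4Mult.Upper
import Cfsg.Agent.H78.F4Mult.RepGroup
import Mathlib.GroupTheory.SpecificGroups.Cyclic

/-!
The Schur multiplier of F4 over two elements is cyclic of order two.
-/

set_option autoImplicit false
set_option maxRecDepth 20000

namespace Cfsg.Agent.H78.F4Mult

open Cfsg.Lie
open Cfsg.Agent.H45 (evalW evalW_cons evalW_nil)
open Subgroup
open scoped commutatorElement

universe u

attribute [local irreducible] rmU negOne Wl vbit okPair normPair

theorem rel_prod {X Y : Type*} [Group X] [Group Y] {L : ℕ → X} {M : ℕ → Y} {B : X} {C : Y}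
    (hL : Rel L B) (hM : Rel M C) : Rel (fun r => (L r, M r)) (B, C) := by
  have hev : ∀ w, evalW (fun r => (L r, M r)) w = (evalW L w, evalW M w) := by
    intro w
    induction w with
    | nil => rfl
    | cons x w ih => rw [evalW_cons, ih]; rfl
  refine ⟨fun r hr => ?_, fun r s h => ?_, ?_, ?_⟩
  · rw [Prod.mk_mul_mk, hL.sq r hr, hM.sq r hr]; rfl
  · rw [Prod.mk_mul_mk, Prod.mk_mul_mk, hev, hL.pair r s h, hM.pair r s h]
    cases vbit r s <;> simp
  · rw [mem_center_iff]
    intro g
    exact Prod.ext (mem_center_iff.1 hL.cent g.1) (mem_center_iff.1 hM.cent g.2)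
  · rw [Prod.mk_mul_mk, hL.invol, hM.invol]; rfl

theorem rel_restrict {X : Type*} [Group X] {L : ℕ → X} {B : X} (h : Rel L B) :
    ∃ (L' : ℕ → genBy L) (B' : genBy L), Rel L' B' ∧ (B' : X) = B ∧
      (∀ r, r < 48 → (L' r : X) = L r) ∧ genBy L' = ⊤ := by
  have hL : ∀ r, r < 48 → L r ∈ genBy L := fun r hr => subset_closure ⟨r, hr, rfl⟩
  let L' : ℕ → genBy L := fun r => if hr : r < 48 then ⟨L r, hL r hr⟩ else 1
  have hv : ∀ r, r < 48 → (L' r : X) = L r := fun r hr => by simp [L', hr]
  have hev : ∀ w : List ℕ, (∀ a ∈ w, a < 48) → ((evalW L' w : genBy L) : X) = evalW L w := by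
    intro w
    induction w with
    | nil => intro _; simp [evalW]
    | cons x w ih =>
      intro hw
      rw [evalW_cons, evalW_cons, Subgroup.coe_mul, hv x (hw x List.mem_cons_self),
        ih fun a ha => hw a (List.mem_cons_of_mem _ ha)]
  obtain ⟨hr, hs, -, -⟩ := okPair_iff.1 base_ok.1
  have hB : B ∈ genBy L := by
    have e := h.pair baseR baseS base_ok.1
    rw [base_ok.2, bpow_true] at e
    have hw : evalW L (Wl baseR baseS) ∈ genBy L := by
      rw [← hev _ (Wl_lt base_ok.1)]
      exact SetLike.coe_mem _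
    have : B = (L baseR * L baseS * evalW L (Wl baseR baseS))⁻¹ * (L baseS * L baseR) := by
      rw [e]; group
    rw [this]
    exact mul_mem (inv_mem (mul_mem (mul_mem (hL _ hr) (hL _ hs)) hw)) (mul_mem (hL _ hs) (hL _ hr))
  refine ⟨L', ⟨B, hB⟩, ⟨fun r hr => ?_, fun r s hp => ?_, ?_, ?_⟩, rfl, hv, ?_⟩
  · exact Subtype.ext (by rw [Subgroup.coe_mul, hv r hr, h.sq r hr]; rfl)
  · obtain ⟨hr', hs', -, -⟩ := okPair_iff.1 hp
    refine Subtype.ext ?_
    simp only [Subgroup.coe_mul, hv r hr', hv s hs', hev _ (Wl_lt hp)]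
    rw [h.pair r s hp]
    cases vbit r s <;> simp
  · rw [mem_center_iff]
    intro g
    exact Subtype.ext (mem_center_iff.1 h.cent g)
  · exact Subtype.ext h.invol
  · rw [eq_top_iff]
    intro g _
    have : genBy L ≤ (genBy L').map (genBy L).subtype := by
      refine (closure_le _).2 ?_
      rintro _ ⟨r, hr', rfl⟩
      exact ⟨L' r, subset_closure ⟨r, hr', rfl⟩, hv r hr'⟩
    obtain ⟨g', hg', e⟩ := this g.2
    rwa [← Subtype.ext (a1 := g') (a2 := g) e]

variable {F : Type u} [Field F] [Fintype F]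

theorem lower (hF : Fintype.card F = 2) :
    ∃ (Γ : Type u) (_ : Group Γ) (_ : Finite Γ) (σ : Γ →* ↥(chevF4.group F)),
      Cfsg.IsStemExtension σ ∧ Nonempty (σ.ker ≃* Multiplicative (ZMod 2)) := by
  classical
  have hrel := rel_prod (gen_rel (F := F) hF) rmU_rel
  obtain ⟨L, B, hL, hB, hv, htop⟩ := rel_restrict hrel
  let σ : genBy (fun r => (gen F r, rmU r)) →* ↥(chevF4.group F) :=
    (MonoidHom.fst _ _).comp (genBy _).subtype
  have hσ : ∀ r, r < 48 → σ (L r) = gen F r := fun r hr => by
    show (L r : ↥(chevF4.group F) × GL52).1 = _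
    rw [hv r hr]
  have hσB : σ B = 1 := by
    show (B : ↥(chevF4.group F) × GL52).1 = 1
    rw [hB]
  have hker : σ.ker = zpowers B := by
    refine le_antisymm (fun x hx => ker_mem hF hL σ hσ hσB (htop ▸ mem_top x) hx) ?_
    exact zpowers_le.2 hσB
  have hperf : ∀ k, k < 48 → L k ∈ commutator (genBy (fun r => (gen F r, rmU r))) := by
    have hlong : ∀ k, k < 48 → evalW L (Wl (normPair k).1 (normPair k).2) ∈
        commutator (genBy (fun r => (gen F r, rmU r))) := by
      intro k hk
      obtain ⟨hp, hb, -⟩ := norm_spec hk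
      have e := hL.pair _ _ hp
      rw [hb, bpow_false, mul_one] at e
      have : evalW L (Wl (normPair k).1 (normPair k).2) =
          ⁅(L (normPair k).2)⁻¹, (L (normPair k).1)⁻¹⁆ := by
        rw [commutatorElement_def, inv_inv, inv_inv, mul_assoc, e]
        group
      rw [this, commutator_def]
      exact commutator_mem_commutator (mem_top _) (mem_top _)
    intro k hk
    have h := hlong k hk
    rcases (norm_spec hk).2.2 with h1 | ⟨b, hb, h1, h2⟩
    · simpa [h1, evalW] using h
    · have hb' := hlong b hb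
      rw [h2, evalW_cons, evalW_nil, mul_one] at hb'
      rw [h1, evalW_cons, evalW_cons, evalW_nil, mul_one] at h
      simpa using mul_mem h (inv_mem hb')
  have hcomm : commutator (genBy (fun r => (gen F r, rmU r))) = ⊤ := by
    rw [eq_top_iff, ← htop]
    refine (closure_le _).2 ?_
    rintro _ ⟨r, hr, rfl⟩
    exact hperf r hr
  have hsurj : Function.Surjective σ := by
    rw [← MonoidHom.range_eq_top, eq_top_iff, ← gen_top hF]
    refine (closure_le _).2 ?_
    rintro _ ⟨r, hr, rfl⟩
    exact ⟨L r, hσ r hr⟩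
  have hB1 : B ≠ 1 := fun h => negOne_ne (by
    have e := congrArg (fun x : genBy (fun r => (gen F r, rmU r)) =>
      (x : ↥(chevF4.group F) × GL52).2) h
    simpa [hB] using e)
  refine ⟨genBy (fun r => (gen F r, rmU r)), inferInstance, inferInstance, σ,
    ⟨hsurj, ?_, by rw [hcomm]; exact le_top⟩, ?_⟩
  · rw [hker, zpowers_le]
    exact hL.cent
  · have : Fact (Nat.Prime 2) := ⟨Nat.prime_two⟩
    have hcard : Nat.card σ.ker = 2 := by
      rw [hker, Nat.card_zpowers, orderOf_eq_prime (by rw [sq]; exact hL.invol) hB1]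
    have : IsCyclic σ.ker := isCyclic_of_prime_card hcard
    exact ⟨mulEquivOfCyclicCardEq (by rw [hcard]; simp)⟩

theorem f4_two_multiplier (hF : Fintype.card F = 2) :
    Cfsg.HasCyclicSchurMultiplier ↥(chevF4.group F) 2 :=
  ⟨lower hF, fun Γ _ _ σ hσ => upper hF Γ σ hσ⟩

end Cfsg.Agent.H78.F4Mult
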