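import Cfsg.Agent.H78.F4Mult.Presented
import Cfsg.Agent.H78.F4Mult.Engine

/-!
Each root element of F4 is given by a commutator relation as a word in commutators.
-/

set_option autoImplicit false
set_option maxRecDepth 20000

namespace Cfsg.Agent.H78.F4Mult

open Cfsg.Agent.H45 (evalW evalW_cons evalW_nil)

/-- the pair defining a root element -/
def normPair (k : ℕ) : ℕ × ℕ := (normTab.getD k (0, 0, 0)).2

/-- the shape of the word defining a root element -/
def normShape (k : ℕ) : Bool :=
  match Wl (normPair k).1 (normPair k).2 with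
  | [a] => Nat.beq a k
  | [a, b] => Nat.beq a k && Nat.blt b 48 && beqN (Wl (normPair b).1 (normPair b).2) [b]
  | _ => false

theorem norm_ok : ((List.range 48).all fun k => okPair (normPair k).1 (normPair k).2 &&
    !vbit (normPair k).1 (normPair k).2 && normShape k) = true := by decide +kernel

theorem norm_pairs : (normTab.all fun t => Nat.blt t.1 48 &&
    Nat.beq (normPair t.1).1 t.2.1 && Nat.beq (normPair t.1).2 t.2.2) = true := by decide +kernel

theorem base_ok : okPair baseR baseS = true ∧ vbit baseR baseS = true := by decide +kernel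

theorem norm_spec {k : ℕ} (hk : k < 48) :
    okPair (normPair k).1 (normPair k).2 = true ∧ vbit (normPair k).1 (normPair k).2 = false ∧
      (Wl (normPair k).1 (normPair k).2 = [k] ∨
        ∃ b, b < 48 ∧ Wl (normPair k).1 (normPair k).2 = [k, b] ∧
          Wl (normPair b).1 (normPair b).2 = [b]) := by
  have h := List.all_eq_true.1 norm_ok k (List.mem_range.2 hk)
  simp only [Bool.and_eq_true, Bool.not_eq_true'] at h
  refine ⟨h.1.1, h.1.2, ?_⟩
  have h3 := h.2
  unfold normShape at h3
  split at h3
  · next a ha => exact Or.inl (by rw [ha, Nat.eq_of_beq_eq_true h3])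
  · next a b hab =>
    simp only [Bool.and_eq_true] at h3
    exact Or.inr ⟨b, Nat.le_of_ble_eq_true h3.1.2,
      by rw [hab, Nat.eq_of_beq_eq_true h3.1.1], beqN_eq h3.2⟩
  · exact absurd h3 (by simp)

end Cfsg.Agent.H78.F4Mult
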