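import Cfsg.Agent.H78.F4Mult.Engine
import Cfsg.Agent.H78.F4Mult.OneData

/-!
Kernel check of the first stage of the certificate.
-/

set_option autoImplicit false
set_option maxRecDepth 20000

namespace Cfsg.Agent.H78.F4Mult

/-- the starting keys -/
def seedKeys : List ℕ := key baseR baseS :: normTab.map fun t => key t.2.1 t.2.2

/-- the starting values -/
def seedVals : List (ℕ × ℤ) :=
  (key baseR baseS, 1) :: normTab.map fun t => (key t.2.1 t.2.2, 0)

/-- all steps of the first stage -/
def oneAll : List (ℕ × ℕ × ℕ × ℕ) := one0 ++ one1 ++ one2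

/-- the final test of the first stage -/
def torsOpt : Option (List (ℕ × ℤ)) → (ℕ × ℕ × ℕ) → Bool
  | some st, s => tors st s
  | none, _ => false

theorem torsOpt_some {o : Option (List (ℕ × ℤ))} {s : ℕ × ℕ × ℕ} (h : torsOpt o s = true) :
    ∃ st, o = some st ∧ tors st s = true := by
  cases o with
  | none => exact absurd h (by simp [torsOpt])
  | some st => exact ⟨st, rfl, h⟩

theorem stageOne_ok : torsOpt (run1 oneAll seedVals) torStep = true := by decide +kernel

end Cfsg.Agent.H78.F4Mult
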