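import Cfsg.Agent.H78.F4Mult.BigMat
import Cfsg.Agent.H78.F4Mult.Defs
import Cfsg.Agent.H78.F4Mult.RepData
import Cfsg.Agent.H78.F4Mult.OrbitData

/-!
Kernel checks of identities between products of 52 x 52 matrices over the field with 13 elements.
-/

set_option autoImplicit false
set_option maxRecDepth 20000

namespace Cfsg.Agent.H78.F4Mult

open Cfsg.Agent.H45 (force force_eq)

/-- the matrix with a given letter -/
def letterMat (l : ℕ) : Matrix (Fin 52) (Fin 52) (ZMod 13) := bmat (bigs.getD l 0)

/-- multiply the letters of a word on the left and compare -/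
noncomputable def runB (M C R T : ℕ) : List ℕ → ℕ → Bool
  | [], P => Nat.beq P T
  | l :: w, P => force (bmul M C R (bigs.getD l 0) P) fun P' => runB M C R T w P'

theorem runB_sound {M C R : ℕ} (hM : M = redMask) (hC : C = colMask) (hR : R = rowMask) {T : ℕ} :
    ∀ (w : List ℕ) (P : ℕ), (∀ l ∈ w, Small (bigs.getD l 0)) → Small P →
      runB M C R T w P = true → (w.reverse.map letterMat).prod * bmat P = bmat T := by
  intro w
  induction w with
  | nil =>
    intro P _ _ h
    simp only [runB] at h
    simp [Nat.eq_of_beq_eq_true h]
  | cons l w ih =>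
    intro P hl hP h
    simp only [runB, force_eq] at h
    obtain ⟨h1, h2⟩ := bmul_sound hM hC hR (hl l List.mem_cons_self) hP
    have := ih _ (fun m hm => hl m (List.mem_cons_of_mem _ hm)) h1 h
    rw [h2] at this
    rw [← this]
    simp [letterMat, mul_assoc]

/-- the product named by `w` is the scalar `c` -/
noncomputable def chk (w : List ℕ) (c : ℕ) : Bool :=
  force redMask fun M => force colMask fun C => force rowMask fun R =>
    runB M C R (scalB c) w.reverse (scalB 1)

/-- all entries of the data are small -/
noncomputable def smallChk : Bool :=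
  force lowMask fun L => bigs.all fun X => Nat.beq (X &&& L) X

theorem chk_sound (hs : smallChk = true) {w : List ℕ} {c : ℕ} (hw : ∀ l ∈ w, l < bigs.length)
    (h : chk w c = true) : (w.map letterMat).prod = bmat (scalB c) := by
  simp only [chk, force_eq] at h
  have := runB_sound rfl rfl rfl w.reverse (scalB 1) (fun l hl => ?_) (scalB_small (by norm_num)) h
  · rwa [List.reverse_reverse, bmat_one, mul_one] at this
  · simp only [smallChk, force_eq, List.all_eq_true, Nat.beq_eq] at hs
    have hl' := hw l (List.mem_reverse.1 hl)
    rw [List.getD_eq_getElem _ _ hl']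
    exact small_of_and (hs _ (List.getElem_mem hl'))

/-- image of a root under a fundamental reflection -/
def perm (i r : ℕ) : ℕ := (permTab.getD i []).getD r 0

/-- the fundamental root of a reflection -/
def simp4 (i : ℕ) : ℕ := [33, 27, 25, 24].getD i 0

/-- the check that the root elements are involutions -/
noncomputable def invChk : Bool := (List.range 48).all fun r => chk [r, r] 1

/-- the check that a fundamental reflection permutes root elements -/
noncomputable def conjChk (i : ℕ) : Bool :=
  (List.range 48).all fun r => Nat.blt (perm i r) 48 && chk [48 + i, r, 48 + i, perm i r] 1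

/-- the check of the fundamental reflections -/
noncomputable def reflChk (i : ℕ) : Bool :=
  chk [simp4 i, 47 - simp4 i, simp4 i, 48 + i] 1 && chk [48 + i, 48 + i] 1

/-- the check of a relation -/
noncomputable def relChk (p : ℕ × ℕ) : Bool :=
  okPair p.1 p.2 &&
    chk ([p.2, p.1] ++ ((Wl p.1 p.2).reverse ++ [p.2, p.1])) (bif vbit p.1 p.2 then 12 else 1)

end Cfsg.Agent.H78.F4Mult
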