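import Cfsg.Agent.H78.F4Mult.Engine
import Cfsg.Agent.H78.F4Mult.RepSound

/-!
Relations of all pairs of roots from those of representatives, by conjugation with fundamental reflections.
-/

set_option autoImplicit false
set_option maxRecDepth 20000

namespace Cfsg.Agent.H78.F4Mult

open Cfsg.Agent.H45 (evalW evalW_cons evalW_nil)

/-- the commutator word may be written in the order of the table -/
def wordOK (K : ℕ) (target image : List ℕ) : Bool :=
  beqN target image ||
    match target, image with
    | [a, b], [b', a'] =>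
      Nat.beq a a' && Nat.beq b b' && okPair a b && bit K (key a b) && beqN (Wl a b) [] && !vbit a b
    | _, _ => false

/-- one conjugation -/
def edgeStep (K i r s : ℕ) : Option ℕ :=
  bif Nat.blt i 4 && okPair r s && bit K (key r s) && okPair (perm i r) (perm i s) &&
      (vbit r s == vbit (perm i r) (perm i s)) && (Wl r s).all (fun a => Nat.blt a 48) &&
      wordOK K (Wl (perm i r) (perm i s)) ((Wl r s).map (perm i))
  then some (K ||| (1 <<< key (perm i r) (perm i s))) else none

/-- all conjugations -/
def edgeRun : List ℕ → ℕ → Option ℕ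
  | [], K => some K
  | c :: l, K =>
    match edgeStep K (c % 4) (c / 4 / 48) (c / 4 % 48) with
    | some K' => edgeRun l K'
    | none => none

/-- all edges -/
def edgesAll : List ℕ :=
  edges0 ++ edges1 ++ edges2 ++ edges3 ++ edges4 ++ edges5 ++ edges6 ++ edges7 ++ edges8 ++ edges9 ++
    edges10

/-- the keys of the representatives -/
def repKeys : List ℕ := repPairs.map fun p => key p.1 p.2

/-- all pairs have been reached -/
def covered : Option ℕ → Bool
  | some K => (List.range 48).all fun r => (List.range 48).all fun s => !okPair r s || bit K (key r s)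
  | none => false

theorem covered_some {o : Option ℕ} (h : covered o = true) :
    ∃ K, o = some K ∧ covered (some K) = true := by
  cases o with
  | none => exact absurd h (by simp [covered])
  | some K => exact ⟨K, rfl, h⟩

theorem orbit_covered :
    covered (edgeRun edgesAll (repKeys.foldr (fun j K => K ||| (1 <<< j)) 0)) = true := by
  decide +kernel

theorem okPair_lt {r s : ℕ} (h : okPair r s = true) : r < 48 ∧ s < 48 := by
  simp only [okPair, Bool.and_eq_true] at h
  exact ⟨Nat.le_of_ble_eq_true h.1.1.1, Nat.le_of_ble_eq_true h.1.1.2⟩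

theorem key_inj {r s r' s' : ℕ} (h : okPair r s = true) (h' : okPair r' s' = true)
    (e : key r s = key r' s') : r = r' ∧ s = s' := by
  have h1 := okPair_lt h
  have h2 := okPair_lt h'
  simp only [key] at e
  omega

theorem bit_foldr_mem (l : List ℕ) (k : ℕ) :
    bit (l.foldr (fun j K => K ||| (1 <<< j)) 0) k = true → k ∈ l := by
  induction l with
  | nil => simp [bit]
  | cons a l ih =>
    rw [List.foldr_cons, bit_lor, Bool.or_eq_true, decide_eq_true_eq, List.mem_cons]
    rintro (h | h)
    · exact Or.inr (ih h)
    · exact Or.inl h.symm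

section

variable {X : Type*} [Group X] {L : ℕ → X} {B : X}

/-- one relation -/
def PairRel (L : ℕ → X) (B : X) (r s : ℕ) : Prop :=
  L s * L r = L r * L s * evalW L (Wl r s) * bpow B (vbit r s)

/-- known relations hold -/
def InvP (L : ℕ → X) (B : X) (K : ℕ) : Prop :=
  ∀ r s, okPair r s = true → bit K (key r s) = true → PairRel L B r s

theorem wordOK_sound {K : ℕ} (hi : InvP L B K) {t m : List ℕ} (h : wordOK K t m = true) :
    evalW L t = evalW L m := by
  unfold wordOK at h
  rcases Bool.or_eq_true_iff.1 h with h | h
  · rw [beqN_eq h]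
  · split at h
    · next a b b' a' _ =>
      simp only [Bool.and_eq_true, Nat.beq_eq, Bool.not_eq_true'] at h
      obtain ⟨⟨⟨⟨⟨ha, hb⟩, hp⟩, hk⟩, hW⟩, hv⟩ := h
      have e := hi a b hp hk
      rw [PairRel, beqN_eq hW, hv, evalW_nil, bpow_false, mul_one, mul_one] at e
      simp only [evalW_cons, evalW_nil, mul_one, ← ha, ← hb, e]
    · exact absurd h (by simp)

variable {φ : ℕ → X →* X} (hφ : ∀ i, i < 4 → ∀ r, r < 48 → φ i (L r) = L (perm i r))
  (hB : ∀ i, i < 4 → φ i B = B)

include hφ hB

theorem edgeStep_sound {K K' i r s : ℕ} (hi : InvP L B K) (h : edgeStep K i r s = some K') :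
    InvP L B K' := by
  unfold edgeStep at h
  revert h
  cases hc : (Nat.blt i 4 && okPair r s && bit K (key r s) && okPair (perm i r) (perm i s) &&
      (vbit r s == vbit (perm i r) (perm i s)) && (Wl r s).all (fun a => Nat.blt a 48) &&
      wordOK K (Wl (perm i r) (perm i s)) ((Wl r s).map (perm i))) with
  | false => simp
  | true =>
    simp only [cond_true, Option.some.injEq]
    rintro rfl
    simp only [Bool.and_eq_true, beq_iff_eq] at hc
    obtain ⟨⟨⟨⟨⟨⟨hi4, hp⟩, hk⟩, hp'⟩, hv⟩, hb⟩, hw⟩ := hc
    have hi' : i < 4 := Nat.le_of_ble_eq_true hi4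
    intro a b hab hbit
    rw [bit_lor, Bool.or_eq_true, decide_eq_true_eq] at hbit
    rcases hbit with hbit | hbit
    · exact hi a b hab hbit
    · obtain ⟨rfl, rfl⟩ := key_inj hp' hab hbit
      obtain ⟨hr, hs⟩ := okPair_lt hp
      have e := congrArg (φ i) (hi r s hp hk)
      simp only [map_mul, hφ i hi' r hr, hφ i hi' s hs] at e
      have e2 : φ i (evalW L (Wl r s)) = evalW L ((Wl r s).map (perm i)) := by
        simp only [evalW, map_list_prod, List.map_map]
        exact congrArg List.prod (List.map_congr_left fun x hx =>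
          hφ i hi' x (Nat.le_of_ble_eq_true (List.all_eq_true.1 hb x hx)))
      have e3 : φ i (bpow B (vbit r s)) = bpow B (vbit r s) := by
        cases vbit r s <;> simp [hB i hi']
      rw [e2, e3, ← wordOK_sound hi hw, hv] at e
      exact e

theorem edgeRun_sound : ∀ (l : List ℕ) (K K' : ℕ), InvP L B K →
    edgeRun l K = some K' → InvP L B K' := by
  intro l
  induction l with
  | nil =>
    intro K K' hi h
    simp only [edgeRun, Option.some.injEq] at h
    exact h ▸ hi
  | cons c l ih =>
    intro K K' hi h
    simp only [edgeRun] at h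
    cases hs : edgeStep K (c % 4) (c / 4 / 48) (c / 4 % 48) with
    | none => simp [hs] at h
    | some K₁ =>
      simp only [hs] at h
      exact ih K₁ K' (edgeStep_sound hφ hB hi hs) h

theorem all_pairs (hrep : ∀ p ∈ repPairs, okPair p.1 p.2 = true ∧ PairRel L B p.1 p.2) :
    ∀ r s, okPair r s = true → PairRel L B r s := by
  obtain ⟨K, hK, hc⟩ := covered_some orbit_covered
  have h0 : InvP L B (repKeys.foldr (fun j K => K ||| (1 <<< j)) 0) := by
    intro r s hp hb
    obtain ⟨⟨r', s'⟩, hm, he⟩ := List.mem_map.1 (bit_foldr_mem _ _ hb)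
    obtain ⟨hp', hr'⟩ := hrep _ hm
    obtain ⟨rfl, rfl⟩ := key_inj hp' hp he
    exact hr'
  have h1 := edgeRun_sound hφ hB _ _ _ h0 hK
  intro r s hp
  obtain ⟨hr, hs⟩ := okPair_lt hp
  simp only [covered, List.all_eq_true, List.mem_range] at hc
  refine h1 r s hp ?_
  simpa [hp] using hc r hr s hs

end

end Cfsg.Agent.H78.F4Mult
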