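import Cfsg.Agent.H78.F4Mult.Defs
import Cfsg.Agent.H38.St.Symbols
import Cfsg.Agent.S1078
import Cfsg.Agent.S2395

/-!
F4 over two elements is presented by 48 involutions and Steinberg's commutator relations; so in a
group with relations holding up to a central involution the kernel onto it is generated by that involution.
-/

set_option autoImplicit false
set_option maxRecDepth 20000

namespace Cfsg.Agent.H78.F4Mult

open Cfsg.Lie Cfsg.Lie.ChevalleyDatum
open Cfsg.Agent.H45 (evalW evalW_cons)

universe u

/-- the roots of the commutator word with odd coefficient -/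
def oddTerms (r s : ℕ) : List ℕ :=
  ((chevF4.commTerms r s).filter fun c => decide (c.2.1 % 2 ≠ 0)).map Prod.fst

theorem terms_table : ((List.range 48).all fun r => (List.range 48).all fun s =>
    !okPair r s || (decide (oddTerms r s = Wl r s) &&
      (chevF4.commTerms r s).all fun c =>
        decide (c.1 < 48) && decide (1 ≤ c.2.2.1) && decide (1 ≤ c.2.2.2))) = true := by
  decide +kernel

theorem okPair_iff {r s : ℕ} :
    okPair r s = true ↔ r < 48 ∧ s < 48 ∧ s ≠ r ∧ r + s ≠ 47 := by
  simp only [okPair, Bool.and_eq_true, Bool.not_eq_true', ← Bool.not_eq_true, Nat.beq_eq, and_assoc]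
  simp [Nat.blt, Nat.ble_eq, Nat.succ_le_iff]

theorem neg_table : ((List.range 48).all fun r => decide (chevF4.neg r = 47 - r)) = true := by
  decide +kernel

theorem neg_eq {r : ℕ} (hr : r < 48) : chevF4.neg r = 47 - r :=
  of_decide_eq_true (List.all_eq_true.1 neg_table r (List.mem_range.2 hr))

theorem okPair_table {r s : ℕ} (h : okPair r s = true) :
    oddTerms r s = Wl r s ∧ ∀ c ∈ chevF4.commTerms r s, c.1 < 48 ∧ 1 ≤ c.2.2.1 ∧ 1 ≤ c.2.2.2 := by
  obtain ⟨hr, hs, -, -⟩ := okPair_iff.1 h
  have := List.all_eq_true.1 (List.all_eq_true.1 terms_table r (List.mem_range.2 hr)) s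
    (List.mem_range.2 hs)
  simp only [h, Bool.not_true, Bool.false_or, Bool.and_eq_true, decide_eq_true_eq,
    List.all_eq_true] at this
  exact ⟨this.1, fun c hc => ⟨(this.2 c hc).1.1, (this.2 c hc).1.2, (this.2 c hc).2⟩⟩

theorem Wl_lt {r s : ℕ} (h : okPair r s = true) : ∀ a ∈ Wl r s, a < 48 := by
  intro a ha
  rw [← (okPair_table h).1, oddTerms, List.mem_map] at ha
  obtain ⟨c, hc, rfl⟩ := ha
  exact ((okPair_table h).2 c (List.mem_of_mem_filter hc)).1

theorem f4_mem : chevF4 ∈ [chevG2, chevB2, chevD4, chevF4, chevE6, chevE7, chevE8] := by simp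

section Field

variable {F : Type u} [Field F] [Fintype F]

theorem two_eq_zero (hF : Fintype.card F = 2) : (2 : F) = 0 := by
  have h := FiniteField.cast_card_eq_zero F
  rw [hF] at h
  exact_mod_cast h

theorem eq_zero_or_one (hF : Fintype.card F = 2) (t : F) : t = 0 ∨ t = 1 := by
  classical
  have h : ({0, 1} : Finset F) = Finset.univ :=
    Finset.eq_univ_of_card _ (by rw [Finset.card_pair zero_ne_one, hF])
  simpa using h.ge (Finset.mem_univ t)

theorem intCast_parity (hF : Fintype.card F = 2) (n : ℤ) :
    (n : F) = if n % 2 = 0 then 0 else 1 := by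
  rcases Int.emod_two_eq_zero_or_one n with h | h
  · obtain ⟨k, rfl⟩ := Int.dvd_of_emod_eq_zero h
    simp [h, two_eq_zero hF]
  · have : n = 2 * (n / 2) + 1 := by omega
    rw [h, this]
    simp [two_eq_zero hF]

/-- the lift of a symbol: trivial at zero -/
noncomputable def sym {X : Type*} [Group X] (L : ℕ → X) (r : ℕ) (t : F) : X :=
  open scoped Classical in if t = 0 then 1 else L r

theorem sym_zero {X : Type*} [Group X] (L : ℕ → X) (r : ℕ) : sym L r (0 : F) = 1 := by simp [sym]

theorem sym_one {X : Type*} [Group X] (L : ℕ → X) (r : ℕ) : sym L r (1 : F) = L r := by simp [sym]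

theorem word_zero {X : Type*} [Group X] (f : ℕ → F → X) (hf : ∀ k, k < 48 → f k 0 = 1)
    {r s : ℕ} (h : okPair r s = true) {t u : F} (htu : t = 0 ∨ u = 0) :
    ((chevF4.commWord F r s t u).map fun p => f p.1 p.2).prod = 1 := by
  refine List.prod_eq_one fun x hx => ?_
  simp only [commWord, List.map_map, List.mem_map, Function.comp_apply] at hx
  obtain ⟨c, hc, rfl⟩ := hx
  obtain ⟨h1, hi, hj⟩ := (okPair_table h).2 c hc
  have : (c.2.1 : F) * (-t) ^ c.2.2.1 * u ^ c.2.2.2 = 0 := by
    rcases htu with rfl | rfl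
    · simp [zero_pow (by omega : c.2.2.1 ≠ 0)]
    · simp [zero_pow (by omega : c.2.2.2 ≠ 0)]
  rw [this, hf _ h1]

theorem word_one (hF : Fintype.card F = 2) {X : Type*} [Group X] (f : ℕ → F → X)
    (hf : ∀ k, k < 48 → f k 0 = 1) {r s : ℕ} (h : okPair r s = true) :
    ((chevF4.commWord F r s 1 1).map fun p => f p.1 p.2).prod =
      evalW (fun k => f k 1) (Wl r s) := by
  obtain ⟨hW, hb⟩ := okPair_table h
  rw [← hW, oddTerms, commWord, List.map_map]
  have hneg : (-1 : F) = 1 := by
    rw [neg_eq_iff_add_eq_zero, one_add_one_eq_two, two_eq_zero hF]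
  clear hW h
  generalize chevF4.commTerms r s = l at hb ⊢
  induction l with
  | nil => simp [evalW]
  | cons c l ih =>
    have hc := hb c List.mem_cons_self
    have ihl := ih (fun c' h' => hb c' (List.mem_cons_of_mem _ h'))
    rw [List.map_cons, List.prod_cons, Function.comp_apply, ihl]
    rw [intCast_parity hF, hneg, one_pow, one_pow, mul_one, mul_one]
    by_cases hp : c.2.1 % 2 = 0
    · rw [if_pos hp, List.filter_cons_of_neg (by simp [hp]), hf _ hc.1, one_mul]
    · rw [if_neg hp, List.filter_cons_of_pos (by simp [hp]), List.map_cons, evalW_cons]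

variable (F) in
/-- the map from the cover onto the Chevalley group -/
theorem exists_eta : ∃ η : chevF4.SteinbergCover F →* ↥(chevF4.group F),
    Function.Surjective η ∧ Function.Injective η := by
  obtain ⟨Q, hrel, hA⟩ := H38.St.exists_stData f4_mem F
  obtain ⟨φ, -⟩ := H38.St.cover_equiv Q hrel hA
  obtain ⟨θ, hθ, hker, -⟩ := H38.St.steinberg Q hrel hA
  have hinj : Function.Injective θ := by
    rw [← MonoidHom.ker_eq_bot_iff, hker, Cfsg.Agent.S1078.result _ (by simp)]
  exact ⟨θ.comp φ.toMonoidHom, hθ.comp φ.surjective, hinj.comp φ.injective⟩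

variable (F) in
/-- the chosen map from the cover onto the Chevalley group -/
noncomputable def eta : chevF4.SteinbergCover F →* ↥(chevF4.group F) := (exists_eta F).choose

variable (F) in
theorem eta_surjective : Function.Surjective (eta F) := (exists_eta F).choose_spec.1

variable (F) in
theorem eta_injective : Function.Injective (eta F) := (exists_eta F).choose_spec.2

variable (F) in
/-- the root elements of F4 -/
noncomputable def gen (r : ℕ) : ↥(chevF4.group F) := eta F (chevF4.scGen F r 1)

omit [Fintype F] in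
theorem sc_zero {r : ℕ} (hr : r < 48) : chevF4.scGen F r 0 = 1 := by
  have h := H38.St.sc_add (D := chevF4) (F := F) (r := r) hr 0 0
  rw [add_zero] at h
  exact mul_eq_left.1 h

theorem gen_rel (hF : Fintype.card F = 2) : Rel (gen F) 1 where
  sq r hr := by
    rw [gen, ← map_mul, H38.St.sc_add (D := chevF4) hr, one_add_one_eq_two, two_eq_zero hF,
      sc_zero hr, map_one]
  pair r s h := by
    obtain ⟨hr, hs, h1, h2⟩ := okPair_iff.1 h
    have h3 : s ≠ chevF4.neg r := by rw [neg_eq hr]; omega
    have e := H38.St.sc_comm (D := chevF4) (F := F) (r := r) (s := s) hr hs h1 h3 1 1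
    rw [word_one hF (chevF4.scGen F) (fun k hk => sc_zero hk) h] at e
    have e' : evalW (gen F) (Wl r s) = eta F (evalW (fun k => chevF4.scGen F k 1) (Wl r s)) := by
      simp only [evalW, map_list_prod, List.map_map]
      rfl
    rw [e', ← e]
    cases vbit r s <;>
      simp [gen, mul_assoc]
  cent := one_mem _
  invol := one_mul 1

/-- the subgroup generated by root elements -/
def genBy {X : Type*} [Group X] (L : ℕ → X) : Subgroup X :=
  Subgroup.closure (L '' {r | r < 48})

omit [Fintype F] in
theorem sc_map {r : ℕ} (hr : r < 48) (t : F) :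
    (PresentedGroup.of (⟨r, hr⟩, t) : chevF4.SteinbergCover F) = chevF4.scGen F r t := by
  simp [scGen, stX, show r < chevF4.nroots from hr]; rfl

theorem gen_top (hF : Fintype.card F = 2) : genBy (gen F) = ⊤ := by
  rw [eq_top_iff]
  intro x _
  obtain ⟨y, rfl⟩ := eta_surjective F x
  refine PresentedGroup.generated_by _ ((genBy (gen F)).comap (eta F)) ?_ y
  rintro ⟨⟨r, hr⟩, t⟩
  rw [Subgroup.mem_comap, sc_map hr]
  rcases eq_zero_or_one hF t with rfl | rfl
  · rw [sc_zero hr, map_one]; exact one_mem _
  · exact Subgroup.subset_closure ⟨r, hr, rfl⟩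

theorem ker_mem (hF : Fintype.card F = 2) {X : Type*} [Group X] {L : ℕ → X} {B : X}
    (hL : Rel L B) (π : X →* ↥(chevF4.group F)) (hπ : ∀ r, r < 48 → π (L r) = gen F r)
    (hB : π B = 1) {x : X} (hx : x ∈ genBy L) (h1 : π x = 1) : x ∈ Subgroup.zpowers B := by
  set N := Subgroup.zpowers B with hN
  have : N.Normal := ⟨fun n hn g => by
    rw [Subgroup.mem_center_iff.1 ((Subgroup.zpowers_le.2 hL.cent) hn) g, mul_inv_cancel_right]
    exact hn⟩
  let q := QuotientGroup.mk' N
  have hq : q B = 1 := (QuotientGroup.eq_one_iff B).2 (Subgroup.mem_zpowers B)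
  let f : Fin chevF4.nroots × F → X ⧸ N := fun p => sym (fun k => q (L k)) p.1 p.2
  have hsym : ∀ (r : ℕ) (t : F), r < 48 →
      FreeGroup.lift f (chevF4.stX r t) = sym (fun k => q (L k)) r t := by
    intro r t hr
    simp [stX, show r < chevF4.nroots from hr, f]
  have hrels : ∀ w ∈ chevF4.steinbergRelsAB F, FreeGroup.lift f w = 1 := by
    rintro w (⟨r, t, u, hr, rfl⟩ | ⟨r, s, t, u, hr, hs, h1, h2, rfl⟩)
    · have hr' : r < 48 := hr
      rw [map_mul, map_mul, map_inv, hsym r t hr', hsym r u hr', hsym r (t + u) hr']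
      rcases eq_zero_or_one hF t with rfl | rfl
      · simp [sym_zero]
      rcases eq_zero_or_one hF u with rfl | rfl
      · simp [sym_zero]
      rw [one_add_one_eq_two, two_eq_zero hF, sym_zero, sym_one, ← map_mul, hL.sq r hr']
      simp
    · have hr' : r < 48 := hr
      have hs' : s < 48 := hs
      have hp : okPair r s = true := okPair_iff.2 ⟨hr', hs', h1, by rw [neg_eq hr'] at h2; omega⟩
      have hw : FreeGroup.lift f (chevF4.stWord (chevF4.commWord F r s t u)) =
          ((chevF4.commWord F r s t u).map fun p => sym (fun k => q (L k)) p.1 p.2).prod := by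
        simp only [stWord, map_list_prod, List.map_map]
        congr 1
        refine List.map_congr_left fun p hp' => hsym p.1 p.2 ?_
        simp only [commWord, List.mem_map] at hp'
        obtain ⟨c, hc, rfl⟩ := hp'
        exact ((okPair_table hp).2 c hc).1
      rw [map_mul, map_mul, map_mul, map_mul, map_inv, map_inv, map_inv, hw, hsym r t hr', hsym s u hs']
      rcases eq_zero_or_one hF t with rfl | rfl
      · rw [word_zero _ (fun k _ => sym_zero _ k) hp (Or.inl rfl)]
        simp [sym_zero]
      rcases eq_zero_or_one hF u with rfl | rfl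
      · rw [word_zero _ (fun k _ => sym_zero _ k) hp (Or.inr rfl)]
        simp [sym_zero]
      rw [word_one hF _ (fun k _ => sym_zero _ k) hp]
      have e : evalW (fun k => sym (fun k => q (L k)) k (1 : F)) (Wl r s) = q (evalW L (Wl r s)) := by
        simp only [evalW, map_list_prod, List.map_map, sym_one]
        rfl
      have e2 := congrArg q (hL.pair r s hp)
      simp only [map_mul] at e2
      have e3 : q (bpow B (vbit r s)) = 1 := by cases vbit r s <;> simp [hq]
      rw [e3, mul_one] at e2
      rw [e, sym_one, sym_one, mul_assoc (q (L s))⁻¹ (q (L r))⁻¹, mul_inv_eq_one, mul_assoc,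
        mul_assoc, inv_mul_eq_iff_eq_mul, inv_mul_eq_iff_eq_mul]
      simpa [mul_assoc] using e2
  let ψ : chevF4.SteinbergCover F →* X ⧸ N := PresentedGroup.toGroup hrels
  have hψ : ∀ (r : ℕ), r < 48 → ψ (chevF4.scGen F r 1) = q (L r) := by
    intro r hr
    exact (hsym r 1 hr).trans (sym_one _ r)
  have hle : N ≤ π.ker := Subgroup.zpowers_le.2 hB
  let πb : X ⧸ N →* ↥(chevF4.group F) := QuotientGroup.lift N π hle
  have hcomp : πb.comp ψ = eta F := by
    refine PresentedGroup.ext ?_
    rintro ⟨⟨r, hr⟩, t⟩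
    rw [sc_map hr]
    rcases eq_zero_or_one hF t with rfl | rfl
    · rw [sc_zero hr, map_one, map_one]
    · rw [MonoidHom.comp_apply, hψ r hr]
      exact hπ r hr
  have hrange : genBy L ≤ ψ.range.comap q := by
    refine (Subgroup.closure_le _).2 ?_
    rintro _ ⟨r, hr, rfl⟩
    exact ⟨chevF4.scGen F r 1, hψ r hr⟩
  obtain ⟨y, hy⟩ := hrange hx
  have hy1 : eta F y = 1 := by
    rw [← hcomp, MonoidHom.comp_apply, hy]
    exact h1
  rw [eta_injective F (hy1.trans (map_one _).symm), map_one] at hy
  exact (QuotientGroup.eq_one_iff x).1 hy.symm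

end Field

end Cfsg.Agent.H78.F4Mult
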