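import Cfsg.Agent.H78.F4Mult.Norm
import Cfsg.Agent.H78.F4Mult.Cert
import Mathlib.GroupTheory.Commutator.Basic
import Cfsg.Prelude.Def_KGroupFacts

/-!
The kernel of a stem extension of F4 over two elements has at most two elements.
-/

set_option autoImplicit false
set_option maxRecDepth 20000

namespace Cfsg.Agent.H78.F4Mult

open Cfsg.Lie
open Cfsg.Agent.H45 (evalW evalW_cons evalW_nil)
open Subgroup
open scoped commutatorElement

universe u v

attribute [local irreducible] Wl vbit okPair normPair normTab kAll vAll key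

variable {F : Type u} [Field F] [Fintype F]

/-- commutator in the order of Steinberg's relations -/
def stComm {Γ : Type v} [Group Γ] (a b : Γ) : Γ := a⁻¹ * b⁻¹ * a * b

theorem stComm_central {Γ : Type v} [Group Γ] {a b c d : Γ} (hc : c ∈ center Γ) (hd : d ∈ center Γ) :
    stComm (a * c) (b * d) = stComm a b := by
  have e1 : ∀ x, x * c = c * x := mem_center_iff.1 hc
  have e2 : ∀ x, x * d = d * x := mem_center_iff.1 hd
  simp only [stComm, mul_inv_rev, mul_assoc]
  have i1 : ∀ x, x * c⁻¹ = c⁻¹ * x := mem_center_iff.1 (inv_mem hc)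
  have i2 : ∀ x, x * d⁻¹ = d⁻¹ * x := mem_center_iff.1 (inv_mem hd)
  calc c⁻¹ * (a⁻¹ * (d⁻¹ * (b⁻¹ * (a * (c * (b * d))))))
      = c⁻¹ * ((a⁻¹ * d⁻¹) * (b⁻¹ * (a * (c * (b * d))))) := by group
    _ = c⁻¹ * (d⁻¹ * ((a⁻¹ * b⁻¹ * a) * c) * (b * d)) := by rw [i2]; group
    _ = (c⁻¹ * (d⁻¹ * c)) * ((a⁻¹ * b⁻¹ * a) * b * d) := by rw [e1]; group
    _ = (c⁻¹ * (c * d⁻¹)) * (d * ((a⁻¹ * b⁻¹ * a) * b)) := by rw [e1 d⁻¹, e2]
    _ = a⁻¹ * (b⁻¹ * (a * b)) := by group

theorem exists_lift (hF : Fintype.card F = 2) {Γ : Type v} [Group Γ]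
    (σ : Γ →* ↥(chevF4.group F)) (hs : Function.Surjective σ) (hc : σ.ker ≤ center Γ) :
    ∃ (L : ℕ → Γ) (B : Γ), Rel L B ∧ (∀ r, r < 48 → σ (L r) = gen F r) ∧ σ B = 1 := by
  classical
  have hg := gen_rel (F := F) hF
  choose x hx using fun r => hs (gen F r)
  let C : ℕ → Γ := fun k => stComm (x (normPair k).2) (x (normPair k).1)
  let L : ℕ → Γ := fun k =>
    match Wl (normPair k).1 (normPair k).2 with
    | [_, b] => C k * (C b)⁻¹
    | _ => C k
  have hgW : ∀ r s, okPair r s = true →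
      stComm (gen F s) (gen F r) = evalW (gen F) (Wl r s) := by
    intro r s h
    have e := hg.pair r s h
    have e1 : bpow (1 : ↥(chevF4.group F)) (vbit r s) = 1 := by cases vbit r s <;> rfl
    rw [e1, mul_one] at e
    rw [stComm, mul_assoc, e]
    group
  have hCk : ∀ k, k < 48 → σ (C k) = evalW (gen F) (Wl (normPair k).1 (normPair k).2) := by
    intro k hk
    rw [← hgW _ _ (norm_spec hk).1]
    simp only [C, stComm, map_mul, map_inv, hx]
  have hσ : ∀ k, k < 48 → σ (L k) = gen F k := by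
    intro k hk
    rcases (norm_spec hk).2.2 with h | ⟨b, hb, h, hbW⟩
    · have : L k = C k := by simp only [L, h]
      rw [this, hCk k hk, h]
      simp [evalW]
    · have : L k = C k * (C b)⁻¹ := by simp only [L, h]
      rw [this, map_mul, map_inv, hCk k hk, hCk b hb, h, hbW]
      simp [evalW]
  have hker : ∀ w, σ w = 1 → w ∈ center Γ := fun w h => hc (MonoidHom.mem_ker.2 h)
  let d : ℕ → ℕ → Γ := fun r s => (L r * L s * evalW L (Wl r s))⁻¹ * (L s * L r)
  have hd : ∀ r s, okPair r s = true → σ (d r s) = 1 := by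
    intro r s h
    obtain ⟨hr, hs', -, -⟩ := okPair_iff.1 h
    have hw : σ (evalW L (Wl r s)) = evalW (gen F) (Wl r s) := by
      simp only [evalW, map_list_prod, List.map_map]
      exact congrArg List.prod (List.map_congr_left fun a ha => hσ a (Wl_lt h a ha))
    have e := hg.pair r s h
    have e1 : bpow (1 : ↥(chevF4.group F)) (vbit r s) = 1 := by cases vbit r s <;> rfl
    rw [e1, mul_one] at e
    simp only [d, map_mul, map_inv, hσ r hr, hσ s hs', hw, e]
    group
  have hsq : ∀ r, r < 48 → σ (L r * L r) = 1 := fun r hr => by rw [map_mul, hσ r hr, hg.sq r hr]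
  let z : ℕ → center Γ := fun k =>
    if h : k < 48 ∧ σ (L k * L k) = 1 then ⟨L k * L k, hker _ h.2⟩
    else if h : 48 ≤ k ∧ σ (d ((k - 48) / 48) ((k - 48) % 48)) = 1 then ⟨_, hker _ h.2⟩ else 1
  have hzk : ∀ r s, okPair r s = true → (z (key r s) : Γ) = d r s := by
    intro r s h
    obtain ⟨hr, hs', -, -⟩ := okPair_iff.1 h
    have e1 : (key r s - 48) / 48 = r := by unfold key; omega
    have e2 : (key r s - 48) % 48 = s := by unfold key; omega
    have e3 : ¬ (key r s < 48) := by unfold key; omega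
    simp only [z, e3, false_and, dite_false, e1, e2]
    rw [dif_pos ⟨Nat.le_of_not_lt e3, hd r s h⟩]
  have hdisc : Disc L z := by
    refine ⟨fun r hr => ?_, fun r s h => ?_⟩
    · simp only [z]
      rw [dif_pos ⟨hr, hsq r hr⟩]
    · rw [hzk r s h]
      simp only [d]
      group
  have hn : ∀ t ∈ normTab, z (key t.2.1 t.2.2) = 1 := by
    intro t ht
    have h := List.all_eq_true.1 norm_pairs t ht
    simp only [Bool.and_eq_true] at h
    rw [← Nat.eq_of_beq_eq_true h.1.2, ← Nat.eq_of_beq_eq_true h.2]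
    have hk : t.1 < 48 := Nat.le_of_ble_eq_true h.1.1
    generalize t.1 = k at hk
    obtain ⟨hp, -, hshape⟩ := norm_spec hk
    obtain ⟨hr, hs', -, -⟩ := okPair_iff.1 hp
    refine Subtype.ext ?_
    rw [hzk _ _ hp, OneMemClass.coe_one]
    have hL : ∀ a, a < 48 → L a = x a * ((x a)⁻¹ * L a) ∧ (x a)⁻¹ * L a ∈ center Γ := fun a ha =>
      ⟨(mul_inv_cancel_left _ _).symm,
        hker _ (by rw [map_mul, map_inv, hx, hσ a ha, inv_mul_cancel])⟩
    have hcomm : stComm (L (normPair k).2) (L (normPair k).1) = C k := by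
      rw [(hL _ hs').1, (hL _ hr).1, stComm_central (hL _ hs').2 (hL _ hr).2]
    have hword : evalW L (Wl (normPair k).1 (normPair k).2) = C k := by
      rcases hshape with h1 | ⟨b, hb, h1, h2⟩
      · have : L k = C k := by simp only [L, h1]
        rw [h1, evalW_cons, evalW_nil, mul_one, this]
      · have e1 : L k = C k * (C b)⁻¹ := by simp only [L, h1]
        have e2 : L b = C b := by simp only [L, h2]
        rw [h1, evalW_cons, evalW_cons, evalW_nil, mul_one, e1, e2, inv_mul_cancel_right]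
    simp only [d, hword, ← hcomm, stComm]
    group
  obtain ⟨hc2, hz1, hz2⟩ := cert hdisc hn
  refine ⟨L, (z (key baseR baseS) : Γ), ⟨fun r hr => ?_, fun r s h => ?_, (z _).2, ?_⟩, hσ, ?_⟩
  · rw [hdisc.sq r hr, hz1 r hr]; rfl
  · rw [hdisc.pair r s h, hz2 r s h]
    cases vbit r s <;> simp
  · rw [← Subgroup.coe_mul, hc2]; rfl
  · rw [hzk _ _ base_ok.1]
    exact hd _ _ base_ok.1

theorem upper (hF : Fintype.card F = 2) (Γ : Type v) [Group Γ] (σ : Γ →* ↥(chevF4.group F))
    (hσ : Cfsg.IsStemExtension σ) :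
    ∃ f : Multiplicative (ZMod 2) →* σ.ker, Function.Surjective f := by
  obtain ⟨hs, hc, hd⟩ := hσ
  obtain ⟨L, B, hL, hLσ, hB⟩ := exists_lift hF σ hs hc
  have hsup : ∀ g : Γ, ∃ p ∈ genBy L, ∃ w ∈ σ.ker, p * w = g := by
    intro g
    have htop : (genBy L).map σ = ⊤ := by
      rw [eq_top_iff, ← gen_top hF, genBy, closure_le]
      rintro _ ⟨r, hr, rfl⟩
      exact ⟨L r, subset_closure ⟨r, hr, rfl⟩, hLσ r hr⟩
    obtain ⟨p, hp, hpg⟩ := (htop ▸ mem_top (σ g) : σ g ∈ (genBy L).map σ)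
    exact ⟨p, hp, p⁻¹ * g, by rw [MonoidHom.mem_ker, map_mul, map_inv, hpg, inv_mul_cancel],
      mul_inv_cancel_left _ _⟩
  have hcomm : commutator Γ ≤ genBy L := by
    rw [commutator_def, commutator_le]
    intro a _ b _
    obtain ⟨p, hp, k, hk, rfl⟩ := hsup a
    obtain ⟨q, hq, l, hl, rfl⟩ := hsup b
    have e : ⁅p * k, q * l⁆ = ⁅p, q⁆ := by
      have h1 : ∀ x, x * k = k * x := mem_center_iff.1 (hc hk)
      have h2 : ∀ x, x * l = l * x := mem_center_iff.1 (hc hl)
      simp only [commutatorElement_def, mul_inv_rev]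
      calc p * k * (q * l) * (k⁻¹ * p⁻¹) * (l⁻¹ * q⁻¹)
          = p * (k * (q * l)) * k⁻¹ * p⁻¹ * (l⁻¹ * q⁻¹) := by group
        _ = p * ((q * l) * k) * k⁻¹ * p⁻¹ * (l⁻¹ * q⁻¹) := by rw [h1 (q * l)]
        _ = p * q * (l * p⁻¹) * (l⁻¹ * q⁻¹) := by group
        _ = p * q * (p⁻¹ * l) * (l⁻¹ * q⁻¹) := by rw [h2 p⁻¹]
        _ = p * q * p⁻¹ * q⁻¹ := by group
    rw [e, commutatorElement_def]
    exact mul_mem (mul_mem (mul_mem hp hq) (inv_mem hp)) (inv_mem hq)
  let b : σ.ker := ⟨B, hB⟩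
  have hb : b * b = 1 := Subtype.ext hL.invol
  let f : Multiplicative (ZMod 2) →* σ.ker :=
    { toFun := fun a => bpow b (decide (Multiplicative.toAdd a = 1))
      map_one' := rfl
      map_mul' := fun a c => by
        have h2 : ∀ y : ZMod 2, y = 0 ∨ y = 1 := by decide
        rcases h2 (Multiplicative.toAdd a) with ha | ha <;>
          rcases h2 (Multiplicative.toAdd c) with hc' | hc' <;>
          simp [toAdd_mul, ha, hc', hb, show (1 : ZMod 2) + 1 = 0 from rfl] }
  refine ⟨f, fun w => ?_⟩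
  obtain ⟨i, hi⟩ := mem_zpowers_iff.1
    (ker_mem hF hL σ hLσ hB (hcomm (hd w.2)) w.2)
  rcases Int.even_or_odd i with ⟨j, rfl⟩ | ⟨j, rfl⟩
  · refine ⟨1, Subtype.ext ?_⟩
    rw [map_one, OneMemClass.coe_one, ← hi, ← two_mul, zpow_mul, zpow_two, hL.invol, one_zpow]
  · refine ⟨Multiplicative.ofAdd 1, Subtype.ext ?_⟩
    show (bpow b (decide ((1 : ZMod 2) = 1)) : Γ) = (w : Γ)
    rw [← hi, zpow_add_one, zpow_mul, zpow_two, hL.invol, one_zpow, one_mul]
    simp [b]

end Cfsg.Agent.H78.F4Mult
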